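import Cfsg.Agent.H56.Exc.BigRows
import Cfsg.Agent.Lib.RingK
import Cfsg.Agent.Prune
set_option linter.all false
prune_inst 0x7f00000000000000000000000000000000000000000000000000000000000000000000000000000000000000000000000000000000000000000000000000000000000000000000000000000000000000003fffffffffffffffffffffffffffbeffbdffffffff
open scoped Cfsg.Agent.FastGrp

/-!
# The families of big tori of the exceptional groups (helper56)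

`tori_E8` etc.: the structure `Tori` for the classes `15, 20, 24, 30` of `E₈(q)`, and so on.
-/

set_option autoImplicit false
set_option linter.unusedSectionVars false
set_option linter.unusedSimpArgs false

namespace Cfsg.Agent.H56.Exc

open Cfsg.Agent Cfsg.Lie

universe u

/-- `q ^ a + 1` or `q ^ a - 1` -/
def fz (q a : ℕ) (s : Bool) : ℕ := if s then q ^ a + 1 else q ^ a - 1

/-- the condition for a prime of class `j` to divide `fz q a s` -/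
def cz (j a : ℕ) (s : Bool) : Bool := if s then (2 * a % j == 0 && a % j != 0) else a % j == 0

theorem cz_of_dvd {q j r a : ℕ} {s : Bool} (h : H436.Prim q j r) (hj : 2 ≤ j) (hd : r ∣ fz q a s) : cz j a s = true := by
  have hq1 : 1 ≤ q ^ a := by
    rcases Nat.eq_zero_or_pos q with h0 | h0
    · exact absurd (h0 ▸ dvd_zero r) h.not_dvd
    · exact Nat.pow_pos h0
  cases s
  · simp only [fz, Bool.false_eq_true, if_false] at hd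
    simp only [cz, Bool.false_eq_true, if_false, beq_iff_eq]
    exact Nat.mod_eq_zero_of_dvd ((h.dvd_iff _).1 hd)
  · simp only [fz, if_true] at hd
    simp only [cz, if_true, Bool.and_eq_true, beq_iff_eq, bne_iff_ne, ne_eq]
    constructor
    · apply Nat.mod_eq_zero_of_dvd
      by_contra h2
      exact h.not_dvd_add h2 hd
    · intro h2
      have h3 := h.dvd (Nat.dvd_of_mod_eq_zero h2)
      have h4 : r ∣ 2 := by
        have h5 := Nat.dvd_sub hd h3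
        have h6 : q ^ a + 1 - (q ^ a - 1) = 2 := by omega
        rwa [h6] at h5
      have h5 := h.odd hj
      have h6 := (Nat.prime_dvd_prime_iff_eq h.prime Nat.prime_two).1 h4
      omega

theorem not_dvd_fz {p q a : ℕ} {s : Bool} (hp : p.Prime) (hpq : p ∣ q) (hq : 2 ≤ q) (ha : 0 < a) : ¬ p ∣ fz q a s := by
  intro h
  have h1 : p ∣ q ^ a := hpq.trans (dvd_pow_self q ha.ne')
  have h2 : 1 ≤ q ^ a := Nat.one_le_pow _ _ (by omega)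
  cases s
  · simp only [fz, Bool.false_eq_true, if_false] at h
    have h3 := (Nat.dvd_sub h1 h)
    rw [Nat.sub_sub_self h2] at h3
    exact hp.one_lt.ne' (Nat.dvd_one.1 h3)
  · simp only [fz, if_true] at h
    exact hp.one_lt.ne' (Nat.dvd_one.1 ((Nat.dvd_add_right h1).1 h))

theorem cast_fz {q a : ℕ} {s : Bool} (hq : 2 ≤ q) :
    ((fz q a s : ℕ) : ℤ) = if s then (q : ℤ) ^ a + 1 else (q : ℤ) ^ a - 1 := by
  cases s
  · simp only [fz, Bool.false_eq_true, if_false]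
    rw [Nat.cast_sub (Nat.pow_pos (by omega))]; push_cast; ring
  · simp only [fz, if_true]; push_cast; ring

/-- the data of a class: the exponent, the order of the torus, the order of the relative Weyl group, and two factors -/
structure Row where
  i : ℕ
  e : ℕ
  a : ℕ
  s : Bool
  b : ℕ
  t : Bool

/-- the checks -/
def Row.chk (R S : Row) : Bool :=
  !cz S.i R.a R.s && !cz S.i R.b R.t && (R.e.divisors.filter fun s => s ≠ 1 ∧ S.i ∣ s - 1) = ∅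

def Row.chk1 (R : Row) : Bool := decide (3 ≤ R.i ∧ 0 < R.a ∧ 0 < R.b ∧ 0 < R.e)

/-- constructor -/
theorem Tori.of {G : Type u} [Group G] [Finite G] {p q n : ℕ} (hp : p.Prime) (hpq : p ∣ q) (hq : 2 ≤ q)
    {L : Fin n → Row} {m : Fin n → ℕ} (hbig : ∀ i r, H436.Prim q (L i).i r → Big G r (m i) (L i).e)
    (hdvd : ∀ i r, H436.Prim q (L i).i r → r ∣ Nat.card G)
    (h6 : ∀ i, ¬ (q = 2 ∧ (L i).i = 6)) (h1 : ∀ i, (L i).chk1 = true)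
    (hm : ∀ i, m i ∣ fz q (L i).a (L i).s * fz q (L i).b (L i).t)
    (hsep : ∀ i j, i ≠ j → (L i).chk (L j) = true) :
    Tori G p (fun i r => H436.Prim q (L i).i r) m (fun i => (L i).e) where
  big := hbig
  dvd := hdvd
  ne i := by
    have h2 := h1 i
    simp only [Row.chk1, decide_eq_true_eq] at h2
    exact H436.exists_prim hq h2.1 (h6 i)
  sep i j s hij hs h := by
    have h2 := h1 j
    have h2' := h1 i
    have h3 := hsep i j hij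
    simp only [Row.chk1, decide_eq_true_eq] at h2 h2'
    simp only [Row.chk, Bool.and_eq_true, Bool.not_eq_true', decide_eq_true_eq] at h3
    rcases hs.prime.dvd_mul.1 h with h1 | h1
    · rcases hs.prime.dvd_mul.1 (h1.trans (hm i)) with h4 | h4
      · have h5 := cz_of_dvd hs (by omega) h4
        rw [h3.1.1] at h5
        exact Bool.false_ne_true h5
      · have h5 := cz_of_dvd hs (by omega) h4
        rw [h3.1.2] at h5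
        exact Bool.false_ne_true h5
    · have h5 : s ∈ (L i).e.divisors.filter fun s => s ≠ 1 ∧ (L j).i ∣ s - 1 :=
        Finset.mem_filter.2 ⟨Nat.mem_divisors.2 ⟨h1, by omega⟩, hs.prime.one_lt.ne', prim_mod hs⟩
      rw [h3.2] at h5
      simp at h5
  ndvd i h := by
    have h2 := h1 i
    simp only [Row.chk1, decide_eq_true_eq] at h2
    rcases hp.dvd_mul.1 (h.trans (hm i)) with h3 | h3
    · exact not_dvd_fz hp hpq hq (by omega) h3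
    · exact not_dvd_fz hp hpq hq (by omega) h3

theorem dvd_fz {q a b m : ℕ} {s t : Bool} {A : ℤ} (hq : 2 ≤ q)
    (h : (m : ℤ) * A = (if s then (q : ℤ) ^ a + 1 else (q : ℤ) ^ a - 1) * (if t then (q : ℤ) ^ b + 1 else (q : ℤ) ^ b - 1)) :
    m ∣ fz q a s * fz q b t := by
  rw [← Int.natCast_dvd_natCast]
  refine ⟨A, ?_⟩
  rw [h, Nat.cast_mul, cast_fz hq, cast_fz hq]

/-- a prime divisor of the torus divides the order of the group -/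
theorem dvd_card_of {G : Type*} [Group G] {r D m : ℕ} {K : ℤ} (hr : r.Prime) (hD : ¬ r ∣ D) (hrm : r ∣ m)
    (h : (D : ℤ) * Nat.card G = m * K) : r ∣ Nat.card G := by
  have h1 : (r : ℤ) ∣ (D : ℤ) * Nat.card G := by
    rw [h]; exact (Int.natCast_dvd_natCast.2 hrm).mul_right _
  have h2 : r ∣ D * Nat.card G := by exact_mod_cast h1
  exact (hr.dvd_mul.1 h2).resolve_left hD

variable {F : Type u} [Field F] [Fintype F] {q : ℕ}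

/-- the order of the torus of class `3` -/
def m_G2_3 (q : ℕ) : ℕ := (1 + (q : ℤ) + (q : ℤ) ^ 2).toNat

theorem cast_m_G2_3 (hq : 2 ≤ q) : (m_G2_3 q : ℤ) = 1 + (q : ℤ) + (q : ℤ) ^ 2 := by
  apply Int.toNat_of_nonneg
  obtain ⟨t, rfl⟩ := Nat.exists_eq_add_of_le hq
  push_cast
  have h : (0 : ℤ) ≤ (t : ℤ) := by positivity
  have e : 1 + (2 + (t : ℤ)) + (2 + (t : ℤ)) ^ 2 = 7 + 5 * (t : ℤ) + (t : ℤ) ^ 2 := by ring
  rw [e]
  positivity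

theorem dvd_G2_3 (hq : Fintype.card F = q) (h2 : 2 ≤ q) {r : ℕ} (hr : H436.Prim q 3 r) :
    r ∣ Nat.card ↥(chevG2.group F) := by
  have hlt := prim_lt hr (by norm_num)
  have hrm : r ∣ m_G2_3 q := by
    rw [← Int.natCast_dvd_natCast, cast_m_G2_3 h2]
    exact prim_dvd_3 hr
  refine dvd_card_of (D := 1) (K := (q : ℤ) ^ 6 * ((q : ℤ) ^ 2 - 1) * ((q : ℤ) - 1) * ((q : ℤ) ^ 3 + 1)) hr.prime ?_ hrm ?_
  · intro h
    have := Nat.le_of_dvd (by norm_num) h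
    omega
  · rw [Nat.cast_one, one_mul, ord_G2 hq, cast_m_G2_3 h2]; ring

theorem fz_G2_3 (h2 : 2 ≤ q) : m_G2_3 q ∣ fz q 3 false * fz q 1 false := by
  refine dvd_fz (A := 1 - 2 * (q : ℤ) + (q : ℤ) ^ 2) h2 ?_
  rw [cast_m_G2_3 h2]
  simp only [if_true, Bool.false_eq_true, if_false]
  ring

/-- the order of the torus of class `6` -/
def m_G2_6 (q : ℕ) : ℕ := (1 - (q : ℤ) + (q : ℤ) ^ 2).toNat

theorem cast_m_G2_6 (hq : 2 ≤ q) : (m_G2_6 q : ℤ) = 1 - (q : ℤ) + (q : ℤ) ^ 2 := by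
  apply Int.toNat_of_nonneg
  obtain ⟨t, rfl⟩ := Nat.exists_eq_add_of_le hq
  push_cast
  have h : (0 : ℤ) ≤ (t : ℤ) := by positivity
  have e : 1 - (2 + (t : ℤ)) + (2 + (t : ℤ)) ^ 2 = 3 + 3 * (t : ℤ) + (t : ℤ) ^ 2 := by ring
  rw [e]
  positivity

theorem dvd_G2_6 (hq : Fintype.card F = q) (h2 : 2 ≤ q) {r : ℕ} (hr : H436.Prim q 6 r) :
    r ∣ Nat.card ↥(chevG2.group F) := by
  have hlt := prim_lt hr (by norm_num)
  have hrm : r ∣ m_G2_6 q := by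
    rw [← Int.natCast_dvd_natCast, cast_m_G2_6 h2]
    exact prim_dvd_6 hr
  refine dvd_card_of (D := 1) (K := (q : ℤ) ^ 6 * ((q : ℤ) ^ 2 - 1) * ((q : ℤ) + 1) * ((q : ℤ) ^ 3 - 1)) hr.prime ?_ hrm ?_
  · intro h
    have := Nat.le_of_dvd (by norm_num) h
    omega
  · rw [Nat.cast_one, one_mul, ord_G2 hq, cast_m_G2_6 h2]; ring

theorem fz_G2_6 (h2 : 2 ≤ q) : m_G2_6 q ∣ fz q 3 true * fz q 1 false := by
  refine dvd_fz (A := -1 + (q : ℤ) ^ 2) h2 ?_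
  rw [cast_m_G2_6 h2]
  simp only [if_true, Bool.false_eq_true, if_false]
  ring

/-- the rows of `G2` -/
def rows_G2 : Fin 2 → Row := ![⟨3, 6, 3, false, 1, false⟩, ⟨6, 6, 3, true, 1, false⟩]

/-- the orders of the tori of `G2` -/
def ms_G2 (q : ℕ) : Fin 2 → ℕ := ![m_G2_3 q, m_G2_6 q]

theorem tori_G2 (hq : Fintype.card F = q) {p : ℕ} (hp : p.Prime) (hpq : p ∣ q) (h2 : 3 ≤ q) :
    Tori ↥(chevG2.group F) p (fun i r => H436.Prim q (rows_G2 i).i r) (ms_G2 q) (fun i => (rows_G2 i).e) := by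
  refine Tori.of hp hpq (by omega) ?_ ?_ ?_ ?_ ?_ ?_
  · intro i r hr
    fin_cases i
    · exact big_G2_3 hq (cast_m_G2_3 (by omega)) hr
    · exact big_G2_6 hq (cast_m_G2_6 (by omega)) hr
  · intro i r hr
    fin_cases i
    · exact dvd_G2_3 hq (by omega) hr
    · exact dvd_G2_6 hq (by omega) hr
  · rintro i ⟨h, -⟩
    omega
  · decide
  · intro i
    fin_cases i
    · exact fz_G2_3 (by omega)
    · exact fz_G2_6 (by omega)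
  · decide

/-- the order of the torus of class `8` -/
def m_F4_8 (q : ℕ) : ℕ := (1 + (q : ℤ) ^ 4).toNat

theorem cast_m_F4_8 (hq : 2 ≤ q) : (m_F4_8 q : ℤ) = 1 + (q : ℤ) ^ 4 := by
  apply Int.toNat_of_nonneg
  obtain ⟨t, rfl⟩ := Nat.exists_eq_add_of_le hq
  push_cast
  have h : (0 : ℤ) ≤ (t : ℤ) := by positivity
  have e : 1 + (2 + (t : ℤ)) ^ 4 = 17 + 32 * (t : ℤ) + 24 * (t : ℤ) ^ 2 + 8 * (t : ℤ) ^ 3 + (t : ℤ) ^ 4 := by ring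
  rw [e]
  (clear * -; positivity)

theorem dvd_F4_8 (hq : Fintype.card F = q) (h2 : 2 ≤ q) {r : ℕ} (hr : H436.Prim q 8 r) :
    r ∣ Nat.card ↥(chevF4.group F) := by
  have hlt := prim_lt hr (by norm_num)
  have hrm : r ∣ m_F4_8 q := by
    rw [← Int.natCast_dvd_natCast, cast_m_F4_8 h2]
    exact prim_dvd_8 hr
  refine dvd_card_of (D := 1) (K := (q : ℤ) ^ 24 * ((q : ℤ) ^ 2 - 1) * ((q : ℤ) ^ 6 - 1) * ((q : ℤ) ^ 4 - 1) * ((q : ℤ) ^ 12 - 1)) hr.prime ?_ hrm ?_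
  · intro h
    have := Nat.le_of_dvd (by norm_num) h
    omega
  · rw [Nat.cast_one, one_mul, ord_F4 hq, cast_m_F4_8 h2]; ring

theorem fz_F4_8 (h2 : 2 ≤ q) : m_F4_8 q ∣ fz q 4 true * fz q 1 false := by
  refine dvd_fz (A := -1 + (q : ℤ)) h2 ?_
  rw [cast_m_F4_8 h2]
  simp only [if_true, Bool.false_eq_true, if_false]
  ring

/-- the order of the torus of class `12` -/
def m_F4_12 (q : ℕ) : ℕ := (1 - (q : ℤ) ^ 2 + (q : ℤ) ^ 4).toNat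

theorem cast_m_F4_12 (hq : 2 ≤ q) : (m_F4_12 q : ℤ) = 1 - (q : ℤ) ^ 2 + (q : ℤ) ^ 4 := by
  apply Int.toNat_of_nonneg
  obtain ⟨t, rfl⟩ := Nat.exists_eq_add_of_le hq
  push_cast
  have h : (0 : ℤ) ≤ (t : ℤ) := by positivity
  have e : 1 - (2 + (t : ℤ)) ^ 2 + (2 + (t : ℤ)) ^ 4 = 13 + 28 * (t : ℤ) + 23 * (t : ℤ) ^ 2 + 8 * (t : ℤ) ^ 3 + (t : ℤ) ^ 4 := by ring
  rw [e]
  (clear * -; positivity)

theorem dvd_F4_12 (hq : Fintype.card F = q) (h2 : 2 ≤ q) {r : ℕ} (hr : H436.Prim q 12 r) :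
    r ∣ Nat.card ↥(chevF4.group F) := by
  have hlt := prim_lt hr (by norm_num)
  have hrm : r ∣ m_F4_12 q := by
    rw [← Int.natCast_dvd_natCast, cast_m_F4_12 h2]
    exact prim_dvd_12 hr
  refine dvd_card_of (D := 1) (K := (q : ℤ) ^ 24 * ((q : ℤ) ^ 2 - 1) * ((q : ℤ) ^ 6 - 1) * ((q : ℤ) ^ 8 - 1) * ((q : ℤ) ^ 6 - 1) * ((q : ℤ) ^ 2 + 1)) hr.prime ?_ hrm ?_
  · intro h
    have := Nat.le_of_dvd (by norm_num) h
    omega
  · rw [Nat.cast_one, one_mul, ord_F4 hq, cast_m_F4_12 h2]; ring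

theorem fz_F4_12 (h2 : 2 ≤ q) : m_F4_12 q ∣ fz q 6 true * fz q 1 false := by
  refine dvd_fz (A := -1 + (q : ℤ) - (q : ℤ) ^ 2 + (q : ℤ) ^ 3) h2 ?_
  rw [cast_m_F4_12 h2]
  simp only [if_true, Bool.false_eq_true, if_false]
  ring

/-- the rows of `F4` -/
def rows_F4 : Fin 2 → Row := ![⟨8, 8, 4, true, 1, false⟩, ⟨12, 12, 6, true, 1, false⟩]

/-- the orders of the tori of `F4` -/
def ms_F4 (q : ℕ) : Fin 2 → ℕ := ![m_F4_8 q, m_F4_12 q]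

theorem tori_F4 (hq : Fintype.card F = q) {p : ℕ} (hp : p.Prime) (hpq : p ∣ q) (h2 : 2 ≤ q) :
    Tori ↥(chevF4.group F) p (fun i r => H436.Prim q (rows_F4 i).i r) (ms_F4 q) (fun i => (rows_F4 i).e) := by
  refine Tori.of hp hpq h2 ?_ ?_ ?_ ?_ ?_ ?_
  · intro i r hr
    fin_cases i
    · exact big_F4_8 hq (cast_m_F4_8 h2) hr
    · exact big_F4_12 hq (cast_m_F4_12 h2) hr
  · intro i r hr
    fin_cases i
    · exact dvd_F4_8 hq h2 hr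
    · exact dvd_F4_12 hq h2 hr
  · rintro i ⟨-, h⟩
    revert i
    decide
  · decide
  · intro i
    fin_cases i
    · exact fz_F4_8 h2
    · exact fz_F4_12 h2
  · decide

/-- the order of the torus of class `9` -/
def m_E6_9 (q : ℕ) : ℕ := (1 + (q : ℤ) ^ 3 + (q : ℤ) ^ 6).toNat

theorem cast_m_E6_9 (hq : 2 ≤ q) : (m_E6_9 q : ℤ) = 1 + (q : ℤ) ^ 3 + (q : ℤ) ^ 6 := by
  apply Int.toNat_of_nonneg
  obtain ⟨t, rfl⟩ := Nat.exists_eq_add_of_le hq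
  push_cast
  have h : (0 : ℤ) ≤ (t : ℤ) := by positivity
  have e : 1 + (2 + (t : ℤ)) ^ 3 + (2 + (t : ℤ)) ^ 6 = 73 + 204 * (t : ℤ) + 246 * (t : ℤ) ^ 2 + 161 * (t : ℤ) ^ 3 + 60 * (t : ℤ) ^ 4 + 12 * (t : ℤ) ^ 5 + (t : ℤ) ^ 6 := by ring
  rw [e]
  (clear * -; positivity)

theorem dvd_E6_9 (hq : Fintype.card F = q) (h2 : 2 ≤ q) {r : ℕ} (hr : H436.Prim q 9 r) :
    r ∣ Nat.card ↥(chevE6.group F) := by
  have hlt := prim_lt hr (by norm_num)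
  have hrm : r ∣ m_E6_9 q := by
    rw [← Int.natCast_dvd_natCast, cast_m_E6_9 h2]
    exact prim_dvd_9 hr
  refine dvd_card_of (D := Nat.gcd 3 (q - 1)) (K := (q : ℤ) ^ 36 * ((q : ℤ) ^ 2 - 1) * ((q : ℤ) ^ 5 - 1) * ((q : ℤ) ^ 6 - 1) * ((q : ℤ) ^ 8 - 1) * ((q : ℤ) ^ 3 - 1) * ((q : ℤ) ^ 12 - 1)) hr.prime ?_ hrm ?_
  · intro h
    have := Nat.le_of_dvd (by norm_num) (h.trans (Nat.gcd_dvd_left _ _))
    omega
  · rw [ord_E6 hq, cast_m_E6_9 h2]; (set_option synthInstance.maxSize 99999 in exact Cfsg.Agent.Lib.RingK.eq (by decide +kernel))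

theorem fz_E6_9 (h2 : 2 ≤ q) : m_E6_9 q ∣ fz q 9 false * fz q 1 false := by
  refine dvd_fz (A := 1 - (q : ℤ) - (q : ℤ) ^ 3 + (q : ℤ) ^ 4) h2 ?_
  rw [cast_m_E6_9 h2]
  simp only [if_true, Bool.false_eq_true, if_false]
  ring

/-- the order of the torus of class `12` -/
def m_E6_12 (q : ℕ) : ℕ := ((1 - (q : ℤ) ^ 2 + (q : ℤ) ^ 4) * (1 + (q : ℤ) + (q : ℤ) ^ 2)).toNat

theorem cast_m_E6_12 (hq : 2 ≤ q) : (m_E6_12 q : ℤ) = (1 - (q : ℤ) ^ 2 + (q : ℤ) ^ 4) * (1 + (q : ℤ) + (q : ℤ) ^ 2) := by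
  apply Int.toNat_of_nonneg
  obtain ⟨t, rfl⟩ := Nat.exists_eq_add_of_le hq
  push_cast
  have h : (0 : ℤ) ≤ (t : ℤ) := by positivity
  have e : (1 - (2 + (t : ℤ)) ^ 2 + (2 + (t : ℤ)) ^ 4) * (1 + (2 + (t : ℤ)) + (2 + (t : ℤ)) ^ 2) = 91 + 261 * (t : ℤ) + 314 * (t : ℤ) ^ 2 + 199 * (t : ℤ) ^ 3 + 70 * (t : ℤ) ^ 4 + 13 * (t : ℤ) ^ 5 + (t : ℤ) ^ 6 := by ring
  rw [e]
  (clear * -; positivity)

theorem dvd_E6_12 (hq : Fintype.card F = q) (h2 : 2 ≤ q) {r : ℕ} (hr : H436.Prim q 12 r) :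
    r ∣ Nat.card ↥(chevE6.group F) := by
  have hlt := prim_lt hr (by norm_num)
  have hrm : r ∣ m_E6_12 q := by
    rw [← Int.natCast_dvd_natCast, cast_m_E6_12 h2]
    exact (prim_dvd_12 hr).trans ⟨1 + (q : ℤ) + (q : ℤ) ^ 2, by ring⟩
  refine dvd_card_of (D := Nat.gcd 3 (q - 1)) (K := (q : ℤ) ^ 36 * ((q : ℤ) ^ 2 - 1) * ((q : ℤ) ^ 5 - 1) * ((q : ℤ) ^ 6 - 1) * ((q : ℤ) ^ 8 - 1) * ((q : ℤ) ^ 9 - 1) * ((q : ℤ) - 1) * ((q : ℤ) + 1) * ((q : ℤ) ^ 2 + 1) * ((q : ℤ) ^ 2 - (q : ℤ) + 1)) hr.prime ?_ hrm ?_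
  · intro h
    have := Nat.le_of_dvd (by norm_num) (h.trans (Nat.gcd_dvd_left _ _))
    omega
  · rw [ord_E6 hq, cast_m_E6_12 h2]; (set_option synthInstance.maxSize 99999 in exact Cfsg.Agent.Lib.RingK.eq (by decide +kernel))

theorem fz_E6_12 (h2 : 2 ≤ q) : m_E6_12 q ∣ fz q 6 true * fz q 3 false := by
  refine dvd_fz (A := -1 + (q : ℤ) - (q : ℤ) ^ 2 + (q : ℤ) ^ 3) h2 ?_
  rw [cast_m_E6_12 h2]
  simp only [if_true, Bool.false_eq_true, if_false]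
  ring

/-- the rows of `E6` -/
def rows_E6 : Fin 2 → Row := ![⟨9, 9, 9, false, 1, false⟩, ⟨12, 12, 6, true, 3, false⟩]

/-- the orders of the tori of `E6` -/
def ms_E6 (q : ℕ) : Fin 2 → ℕ := ![m_E6_9 q, m_E6_12 q]

theorem tori_E6 (hq : Fintype.card F = q) {p : ℕ} (hp : p.Prime) (hpq : p ∣ q) (h2 : 2 ≤ q) :
    Tori ↥(chevE6.group F) p (fun i r => H436.Prim q (rows_E6 i).i r) (ms_E6 q) (fun i => (rows_E6 i).e) := by
  refine Tori.of hp hpq h2 ?_ ?_ ?_ ?_ ?_ ?_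
  · intro i r hr
    fin_cases i
    · exact big_E6_9 hq (cast_m_E6_9 h2) hr
    · exact big_E6_12 hq (cast_m_E6_12 h2) hr
  · intro i r hr
    fin_cases i
    · exact dvd_E6_9 hq h2 hr
    · exact dvd_E6_12 hq h2 hr
  · rintro i ⟨-, h⟩
    revert i
    decide
  · decide
  · intro i
    fin_cases i
    · exact fz_E6_9 h2
    · exact fz_E6_12 h2
  · decide

/-- the order of the torus of class `12` -/
def m_TE6_12 (q : ℕ) : ℕ := ((1 - (q : ℤ) ^ 2 + (q : ℤ) ^ 4) * (1 - (q : ℤ) + (q : ℤ) ^ 2)).toNat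

theorem cast_m_TE6_12 (hq : 2 ≤ q) : (m_TE6_12 q : ℤ) = (1 - (q : ℤ) ^ 2 + (q : ℤ) ^ 4) * (1 - (q : ℤ) + (q : ℤ) ^ 2) := by
  apply Int.toNat_of_nonneg
  obtain ⟨t, rfl⟩ := Nat.exists_eq_add_of_le hq
  push_cast
  have h : (0 : ℤ) ≤ (t : ℤ) := by positivity
  have e : (1 - (2 + (t : ℤ)) ^ 2 + (2 + (t : ℤ)) ^ 4) * (1 - (2 + (t : ℤ)) + (2 + (t : ℤ)) ^ 2) = 39 + 123 * (t : ℤ) + 166 * (t : ℤ) ^ 2 + 121 * (t : ℤ) ^ 3 + 50 * (t : ℤ) ^ 4 + 11 * (t : ℤ) ^ 5 + (t : ℤ) ^ 6 := by ring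
  rw [e]
  (clear * -; positivity)

theorem dvd_TE6_12 (hq : IsPrimePow q) (hK : Fintype.card F = q ^ 2) (h2 : 2 ≤ q) {r : ℕ} (hr : H436.Prim q 12 r) :
    r ∣ Nat.card ↥(twistedE6 F q) := by
  have hlt := prim_lt hr (by norm_num)
  have hrm : r ∣ m_TE6_12 q := by
    rw [← Int.natCast_dvd_natCast, cast_m_TE6_12 h2]
    exact (prim_dvd_12 hr).trans ⟨1 - (q : ℤ) + (q : ℤ) ^ 2, by ring⟩
  refine dvd_card_of (D := Nat.gcd 3 (q + 1)) (K := (q : ℤ) ^ 36 * ((q : ℤ) ^ 2 - 1) * ((q : ℤ) ^ 5 + 1) * ((q : ℤ) ^ 6 - 1) * ((q : ℤ) ^ 8 - 1) * ((q : ℤ) ^ 9 + 1) * ((q : ℤ) - 1) * ((q : ℤ) + 1) * ((q : ℤ) ^ 2 + 1) * ((q : ℤ) ^ 2 + (q : ℤ) + 1)) hr.prime ?_ hrm ?_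
  · intro h
    have := Nat.le_of_dvd (by norm_num) (h.trans (Nat.gcd_dvd_left _ _))
    omega
  · rw [ord_TE6 hq hK, cast_m_TE6_12 h2]; (set_option synthInstance.maxSize 99999 in exact Cfsg.Agent.Lib.RingK.eq (by decide +kernel))

theorem fz_TE6_12 (h2 : 2 ≤ q) : m_TE6_12 q ∣ fz q 6 true * fz q 3 true := by
  refine dvd_fz (A := 1 + (q : ℤ) + (q : ℤ) ^ 2 + (q : ℤ) ^ 3) h2 ?_
  rw [cast_m_TE6_12 h2]
  simp only [if_true, Bool.false_eq_true, if_false]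
  ring

/-- the order of the torus of class `18` -/
def m_TE6_18 (q : ℕ) : ℕ := (1 - (q : ℤ) ^ 3 + (q : ℤ) ^ 6).toNat

theorem cast_m_TE6_18 (hq : 2 ≤ q) : (m_TE6_18 q : ℤ) = 1 - (q : ℤ) ^ 3 + (q : ℤ) ^ 6 := by
  apply Int.toNat_of_nonneg
  obtain ⟨t, rfl⟩ := Nat.exists_eq_add_of_le hq
  push_cast
  have h : (0 : ℤ) ≤ (t : ℤ) := by positivity
  have e : 1 - (2 + (t : ℤ)) ^ 3 + (2 + (t : ℤ)) ^ 6 = 57 + 180 * (t : ℤ) + 234 * (t : ℤ) ^ 2 + 159 * (t : ℤ) ^ 3 + 60 * (t : ℤ) ^ 4 + 12 * (t : ℤ) ^ 5 + (t : ℤ) ^ 6 := by ring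
  rw [e]
  (clear * -; positivity)

theorem dvd_TE6_18 (hq : IsPrimePow q) (hK : Fintype.card F = q ^ 2) (h2 : 2 ≤ q) {r : ℕ} (hr : H436.Prim q 18 r) :
    r ∣ Nat.card ↥(twistedE6 F q) := by
  have hlt := prim_lt hr (by norm_num)
  have hrm : r ∣ m_TE6_18 q := by
    rw [← Int.natCast_dvd_natCast, cast_m_TE6_18 h2]
    exact prim_dvd_18 hr
  refine dvd_card_of (D := Nat.gcd 3 (q + 1)) (K := (q : ℤ) ^ 36 * ((q : ℤ) ^ 2 - 1) * ((q : ℤ) ^ 5 + 1) * ((q : ℤ) ^ 6 - 1) * ((q : ℤ) ^ 8 - 1) * ((q : ℤ) ^ 3 + 1) * ((q : ℤ) ^ 12 - 1)) hr.prime ?_ hrm ?_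
  · intro h
    have := Nat.le_of_dvd (by norm_num) (h.trans (Nat.gcd_dvd_left _ _))
    omega
  · rw [ord_TE6 hq hK, cast_m_TE6_18 h2]; (set_option synthInstance.maxSize 99999 in exact Cfsg.Agent.Lib.RingK.eq (by decide +kernel))

theorem fz_TE6_18 (h2 : 2 ≤ q) : m_TE6_18 q ∣ fz q 9 true * fz q 1 false := by
  refine dvd_fz (A := -1 + (q : ℤ) - (q : ℤ) ^ 3 + (q : ℤ) ^ 4) h2 ?_
  rw [cast_m_TE6_18 h2]
  simp only [if_true, Bool.false_eq_true, if_false]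
  ring

/-- the rows of `TE6` -/
def rows_TE6 : Fin 2 → Row := ![⟨12, 12, 6, true, 3, true⟩, ⟨18, 9, 9, true, 1, false⟩]

/-- the orders of the tori of `TE6` -/
def ms_TE6 (q : ℕ) : Fin 2 → ℕ := ![m_TE6_12 q, m_TE6_18 q]

theorem tori_TE6 (hq : IsPrimePow q) (hK : Fintype.card F = q ^ 2) {p : ℕ} (hp : p.Prime) (hpq : p ∣ q) (h2 : 2 ≤ q) :
    Tori ↥(twistedE6 F q) p (fun i r => H436.Prim q (rows_TE6 i).i r) (ms_TE6 q) (fun i => (rows_TE6 i).e) := by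
  refine Tori.of hp hpq h2 ?_ ?_ ?_ ?_ ?_ ?_
  · intro i r hr
    fin_cases i
    · exact big_TE6_12 hq hK (cast_m_TE6_12 h2) hr
    · exact big_TE6_18 hq hK (cast_m_TE6_18 h2) hr
  · intro i r hr
    fin_cases i
    · exact dvd_TE6_12 hq hK h2 hr
    · exact dvd_TE6_18 hq hK h2 hr
  · rintro i ⟨-, h⟩
    revert i
    decide
  · decide
  · intro i
    fin_cases i
    · exact fz_TE6_12 h2
    · exact fz_TE6_18 h2
  · decide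

/-- the order of the torus of class `7` -/
def m_E7_7 (q : ℕ) : ℕ := ((q : ℤ) ^ 7 - 1).toNat

theorem cast_m_E7_7 (hq : 2 ≤ q) : (m_E7_7 q : ℤ) = (q : ℤ) ^ 7 - 1 := by
  apply Int.toNat_of_nonneg
  obtain ⟨t, rfl⟩ := Nat.exists_eq_add_of_le hq
  push_cast
  have h : (0 : ℤ) ≤ (t : ℤ) := by positivity
  have e : (2 + (t : ℤ)) ^ 7 - 1 = 127 + 448 * (t : ℤ) + 672 * (t : ℤ) ^ 2 + 560 * (t : ℤ) ^ 3 + 280 * (t : ℤ) ^ 4 + 84 * (t : ℤ) ^ 5 + 14 * (t : ℤ) ^ 6 + (t : ℤ) ^ 7 := by ring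
  rw [e]
  (clear * -; positivity)

theorem dvd_E7_7 (hq : Fintype.card F = q) (h2 : 2 ≤ q) {r : ℕ} (hr : H436.Prim q 7 r) :
    r ∣ Nat.card ↥(chevE7.group F) := by
  have hlt := prim_lt hr (by norm_num)
  have hrm : r ∣ m_E7_7 q := by
    rw [← Int.natCast_dvd_natCast, cast_m_E7_7 h2]
    exact (prim_dvd_7 hr).trans ⟨-1 + (q : ℤ), by ring⟩
  refine dvd_card_of (D := Nat.gcd 2 (q - 1)) (K := (q : ℤ) ^ 63 * ((q : ℤ) ^ 2 - 1) * ((q : ℤ) ^ 6 - 1) * ((q : ℤ) ^ 8 - 1) * ((q : ℤ) ^ 10 - 1) * ((q : ℤ) ^ 12 - 1) * ((q : ℤ) ^ 7 + 1) * ((q : ℤ) ^ 18 - 1)) hr.prime ?_ hrm ?_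
  · intro h
    have := Nat.le_of_dvd (by norm_num) (h.trans (Nat.gcd_dvd_left _ _))
    omega
  · rw [ord_E7 hq, cast_m_E7_7 h2]; (set_option synthInstance.maxSize 99999 in exact Cfsg.Agent.Lib.RingK.eq (by decide +kernel))

theorem fz_E7_7 (h2 : 2 ≤ q) : m_E7_7 q ∣ fz q 7 false * fz q 1 false := by
  refine dvd_fz (A := -1 + (q : ℤ)) h2 ?_
  rw [cast_m_E7_7 h2]
  simp only [if_true, Bool.false_eq_true, if_false]
  ring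

/-- the order of the torus of class `9` -/
def m_E7_9 (q : ℕ) : ℕ := ((1 + (q : ℤ) ^ 3 + (q : ℤ) ^ 6) * ((q : ℤ) - 1)).toNat

theorem cast_m_E7_9 (hq : 2 ≤ q) : (m_E7_9 q : ℤ) = (1 + (q : ℤ) ^ 3 + (q : ℤ) ^ 6) * ((q : ℤ) - 1) := by
  apply Int.toNat_of_nonneg
  obtain ⟨t, rfl⟩ := Nat.exists_eq_add_of_le hq
  push_cast
  have h : (0 : ℤ) ≤ (t : ℤ) := by positivity
  have e : (1 + (2 + (t : ℤ)) ^ 3 + (2 + (t : ℤ)) ^ 6) * ((2 + (t : ℤ)) - 1) = 73 + 277 * (t : ℤ) + 450 * (t : ℤ) ^ 2 + 407 * (t : ℤ) ^ 3 + 221 * (t : ℤ) ^ 4 + 72 * (t : ℤ) ^ 5 + 13 * (t : ℤ) ^ 6 + (t : ℤ) ^ 7 := by ring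
  rw [e]
  (clear * -; positivity)

theorem dvd_E7_9 (hq : Fintype.card F = q) (h2 : 2 ≤ q) {r : ℕ} (hr : H436.Prim q 9 r) :
    r ∣ Nat.card ↥(chevE7.group F) := by
  have hlt := prim_lt hr (by norm_num)
  have hrm : r ∣ m_E7_9 q := by
    rw [← Int.natCast_dvd_natCast, cast_m_E7_9 h2]
    exact (prim_dvd_9 hr).trans ⟨-1 + (q : ℤ), by ring⟩
  refine dvd_card_of (D := Nat.gcd 2 (q - 1)) (K := (q : ℤ) ^ 63 * ((q : ℤ) ^ 2 - 1) * ((q : ℤ) ^ 6 - 1) * ((q : ℤ) ^ 8 - 1) * ((q : ℤ) ^ 10 - 1) * ((q : ℤ) ^ 12 - 1) * ((q : ℤ) ^ 14 - 1) * ((q : ℤ) ^ 2 + (q : ℤ) + 1) * ((q : ℤ) ^ 9 + 1)) hr.prime ?_ hrm ?_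
  · intro h
    have := Nat.le_of_dvd (by norm_num) (h.trans (Nat.gcd_dvd_left _ _))
    omega
  · rw [ord_E7 hq, cast_m_E7_9 h2]; (set_option synthInstance.maxSize 99999 in exact Cfsg.Agent.Lib.RingK.eq (by decide +kernel))

theorem fz_E7_9 (h2 : 2 ≤ q) : m_E7_9 q ∣ fz q 9 false * fz q 1 false := by
  refine dvd_fz (A := -1 + (q : ℤ) ^ 3) h2 ?_
  rw [cast_m_E7_9 h2]
  simp only [if_true, Bool.false_eq_true, if_false]
  ring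

/-- the order of the torus of class `14` -/
def m_E7_14 (q : ℕ) : ℕ := ((q : ℤ) ^ 7 + 1).toNat

theorem cast_m_E7_14 (hq : 2 ≤ q) : (m_E7_14 q : ℤ) = (q : ℤ) ^ 7 + 1 := by
  apply Int.toNat_of_nonneg
  obtain ⟨t, rfl⟩ := Nat.exists_eq_add_of_le hq
  push_cast
  have h : (0 : ℤ) ≤ (t : ℤ) := by positivity
  have e : (2 + (t : ℤ)) ^ 7 + 1 = 129 + 448 * (t : ℤ) + 672 * (t : ℤ) ^ 2 + 560 * (t : ℤ) ^ 3 + 280 * (t : ℤ) ^ 4 + 84 * (t : ℤ) ^ 5 + 14 * (t : ℤ) ^ 6 + (t : ℤ) ^ 7 := by ring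
  rw [e]
  (clear * -; positivity)

theorem dvd_E7_14 (hq : Fintype.card F = q) (h2 : 2 ≤ q) {r : ℕ} (hr : H436.Prim q 14 r) :
    r ∣ Nat.card ↥(chevE7.group F) := by
  have hlt := prim_lt hr (by norm_num)
  have hrm : r ∣ m_E7_14 q := by
    rw [← Int.natCast_dvd_natCast, cast_m_E7_14 h2]
    exact (prim_dvd_14 hr).trans ⟨1 + (q : ℤ), by ring⟩
  refine dvd_card_of (D := Nat.gcd 2 (q - 1)) (K := (q : ℤ) ^ 63 * ((q : ℤ) ^ 2 - 1) * ((q : ℤ) ^ 6 - 1) * ((q : ℤ) ^ 8 - 1) * ((q : ℤ) ^ 10 - 1) * ((q : ℤ) ^ 12 - 1) * ((q : ℤ) ^ 7 - 1) * ((q : ℤ) ^ 18 - 1)) hr.prime ?_ hrm ?_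
  · intro h
    have := Nat.le_of_dvd (by norm_num) (h.trans (Nat.gcd_dvd_left _ _))
    omega
  · rw [ord_E7 hq, cast_m_E7_14 h2]; (set_option synthInstance.maxSize 99999 in exact Cfsg.Agent.Lib.RingK.eq (by decide +kernel))

theorem fz_E7_14 (h2 : 2 ≤ q) : m_E7_14 q ∣ fz q 7 true * fz q 1 false := by
  refine dvd_fz (A := -1 + (q : ℤ)) h2 ?_
  rw [cast_m_E7_14 h2]
  simp only [if_true, Bool.false_eq_true, if_false]
  ring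

/-- the order of the torus of class `18` -/
def m_E7_18 (q : ℕ) : ℕ := ((1 - (q : ℤ) ^ 3 + (q : ℤ) ^ 6) * ((q : ℤ) + 1)).toNat

theorem cast_m_E7_18 (hq : 2 ≤ q) : (m_E7_18 q : ℤ) = (1 - (q : ℤ) ^ 3 + (q : ℤ) ^ 6) * ((q : ℤ) + 1) := by
  apply Int.toNat_of_nonneg
  obtain ⟨t, rfl⟩ := Nat.exists_eq_add_of_le hq
  push_cast
  have h : (0 : ℤ) ≤ (t : ℤ) := by positivity
  have e : (1 - (2 + (t : ℤ)) ^ 3 + (2 + (t : ℤ)) ^ 6) * ((2 + (t : ℤ)) + 1) = 171 + 597 * (t : ℤ) + 882 * (t : ℤ) ^ 2 + 711 * (t : ℤ) ^ 3 + 339 * (t : ℤ) ^ 4 + 96 * (t : ℤ) ^ 5 + 15 * (t : ℤ) ^ 6 + (t : ℤ) ^ 7 := by ring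
  rw [e]
  (clear * -; positivity)

theorem dvd_E7_18 (hq : Fintype.card F = q) (h2 : 2 ≤ q) {r : ℕ} (hr : H436.Prim q 18 r) :
    r ∣ Nat.card ↥(chevE7.group F) := by
  have hlt := prim_lt hr (by norm_num)
  have hrm : r ∣ m_E7_18 q := by
    rw [← Int.natCast_dvd_natCast, cast_m_E7_18 h2]
    exact (prim_dvd_18 hr).trans ⟨1 + (q : ℤ), by ring⟩
  refine dvd_card_of (D := Nat.gcd 2 (q - 1)) (K := (q : ℤ) ^ 63 * ((q : ℤ) ^ 2 - 1) * ((q : ℤ) ^ 6 - 1) * ((q : ℤ) ^ 8 - 1) * ((q : ℤ) ^ 10 - 1) * ((q : ℤ) ^ 12 - 1) * ((q : ℤ) ^ 14 - 1) * ((q : ℤ) ^ 2 - (q : ℤ) + 1) * ((q : ℤ) ^ 9 - 1)) hr.prime ?_ hrm ?_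
  · intro h
    have := Nat.le_of_dvd (by norm_num) (h.trans (Nat.gcd_dvd_left _ _))
    omega
  · rw [ord_E7 hq, cast_m_E7_18 h2]; (set_option synthInstance.maxSize 99999 in exact Cfsg.Agent.Lib.RingK.eq (by decide +kernel))

theorem fz_E7_18 (h2 : 2 ≤ q) : m_E7_18 q ∣ fz q 9 true * fz q 1 true := by
  refine dvd_fz (A := 1 + (q : ℤ) ^ 3) h2 ?_
  rw [cast_m_E7_18 h2]
  simp only [if_true, Bool.false_eq_true, if_false]
  ring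

/-- the rows of `E7` -/
def rows_E7 : Fin 4 → Row := ![⟨7, 14, 7, false, 1, false⟩, ⟨9, 18, 9, false, 1, false⟩, ⟨14, 14, 7, true, 1, false⟩, ⟨18, 18, 9, true, 1, true⟩]

/-- the orders of the tori of `E7` -/
def ms_E7 (q : ℕ) : Fin 4 → ℕ := ![m_E7_7 q, m_E7_9 q, m_E7_14 q, m_E7_18 q]

theorem tori_E7 (hq : Fintype.card F = q) {p : ℕ} (hp : p.Prime) (hpq : p ∣ q) (h2 : 2 ≤ q) :
    Tori ↥(chevE7.group F) p (fun i r => H436.Prim q (rows_E7 i).i r) (ms_E7 q) (fun i => (rows_E7 i).e) := by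
  refine Tori.of hp hpq h2 ?_ ?_ ?_ ?_ ?_ ?_
  · intro i r hr
    fin_cases i
    · exact big_E7_7 hq (cast_m_E7_7 h2) hr
    · exact big_E7_9 hq (cast_m_E7_9 h2) hr
    · exact big_E7_14 hq (cast_m_E7_14 h2) hr
    · exact big_E7_18 hq (cast_m_E7_18 h2) hr
  · intro i r hr
    fin_cases i
    · exact dvd_E7_7 hq h2 hr
    · exact dvd_E7_9 hq h2 hr
    · exact dvd_E7_14 hq h2 hr
    · exact dvd_E7_18 hq h2 hr
  · rintro i ⟨-, h⟩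
    revert i
    decide
  · decide
  · intro i
    fin_cases i
    · exact fz_E7_7 h2
    · exact fz_E7_9 h2
    · exact fz_E7_14 h2
    · exact fz_E7_18 h2
  · decide

/-- the order of the torus of class `15` -/
def m_E8_15 (q : ℕ) : ℕ := (1 - (q : ℤ) + (q : ℤ) ^ 3 - (q : ℤ) ^ 4 + (q : ℤ) ^ 5 - (q : ℤ) ^ 7 + (q : ℤ) ^ 8).toNat

theorem cast_m_E8_15 (hq : 2 ≤ q) : (m_E8_15 q : ℤ) = 1 - (q : ℤ) + (q : ℤ) ^ 3 - (q : ℤ) ^ 4 + (q : ℤ) ^ 5 - (q : ℤ) ^ 7 + (q : ℤ) ^ 8 := by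
  apply Int.toNat_of_nonneg
  obtain ⟨t, rfl⟩ := Nat.exists_eq_add_of_le hq
  push_cast
  have h : (0 : ℤ) ≤ (t : ℤ) := by positivity
  have e : 1 - (2 + (t : ℤ)) + (2 + (t : ℤ)) ^ 3 - (2 + (t : ℤ)) ^ 4 + (2 + (t : ℤ)) ^ 5 - (2 + (t : ℤ)) ^ 7 + (2 + (t : ℤ)) ^ 8 = 151 + 635 * (t : ℤ) + 1182 * (t : ℤ) ^ 2 + 1265 * (t : ℤ) ^ 3 + 849 * (t : ℤ) ^ 4 + 365 * (t : ℤ) ^ 5 + 98 * (t : ℤ) ^ 6 + 15 * (t : ℤ) ^ 7 + (t : ℤ) ^ 8 := by ring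
  rw [e]
  (clear * -; positivity)

theorem dvd_E8_15 (hq : Fintype.card F = q) (h2 : 2 ≤ q) {r : ℕ} (hr : H436.Prim q 15 r) :
    r ∣ Nat.card ↥(chevE8.group F) := by
  have hlt := prim_lt hr (by norm_num)
  have hrm : r ∣ m_E8_15 q := by
    rw [← Int.natCast_dvd_natCast, cast_m_E8_15 h2]
    exact prim_dvd_15 hr
  refine dvd_card_of (D := 1) (K := (q : ℤ) ^ 120 * ((q : ℤ) ^ 2 - 1) * ((q : ℤ) ^ 8 - 1) * ((q : ℤ) ^ 12 - 1) * ((q : ℤ) ^ 14 - 1) * ((q : ℤ) ^ 18 - 1) * ((q : ℤ) ^ 20 - 1) * ((q : ℤ) ^ 24 - 1) * ((q : ℤ) ^ 5 - 1) * ((q : ℤ) ^ 2 + (q : ℤ) + 1) * ((q : ℤ) ^ 15 + 1)) hr.prime ?_ hrm ?_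
  · intro h
    have := Nat.le_of_dvd (by norm_num) h
    omega
  · rw [Nat.cast_one, one_mul, ord_E8 hq, cast_m_E8_15 h2]; (set_option synthInstance.maxSize 99999 in exact Cfsg.Agent.Lib.RingK.eq (by decide +kernel))

theorem fz_E8_15 (h2 : 2 ≤ q) : m_E8_15 q ∣ fz q 15 false * fz q 1 false := by
  refine dvd_fz (A := 1 - (q : ℤ) ^ 3 - (q : ℤ) ^ 5 + (q : ℤ) ^ 8) h2 ?_
  rw [cast_m_E8_15 h2]
  simp only [if_true, Bool.false_eq_true, if_false]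
  ring

/-- the order of the torus of class `20` -/
def m_E8_20 (q : ℕ) : ℕ := (1 - (q : ℤ) ^ 2 + (q : ℤ) ^ 4 - (q : ℤ) ^ 6 + (q : ℤ) ^ 8).toNat

theorem cast_m_E8_20 (hq : 2 ≤ q) : (m_E8_20 q : ℤ) = 1 - (q : ℤ) ^ 2 + (q : ℤ) ^ 4 - (q : ℤ) ^ 6 + (q : ℤ) ^ 8 := by
  apply Int.toNat_of_nonneg
  obtain ⟨t, rfl⟩ := Nat.exists_eq_add_of_le hq
  push_cast
  have h : (0 : ℤ) ≤ (t : ℤ) := by positivity
  have e : 1 - (2 + (t : ℤ)) ^ 2 + (2 + (t : ℤ)) ^ 4 - (2 + (t : ℤ)) ^ 6 + (2 + (t : ℤ)) ^ 8 = 205 + 860 * (t : ℤ) + 1575 * (t : ℤ) ^ 2 + 1640 * (t : ℤ) ^ 3 + 1061 * (t : ℤ) ^ 4 + 436 * (t : ℤ) ^ 5 + 111 * (t : ℤ) ^ 6 + 16 * (t : ℤ) ^ 7 + (t : ℤ) ^ 8 := by ring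
  rw [e]
  (clear * -; positivity)

theorem dvd_E8_20 (hq : Fintype.card F = q) (h2 : 2 ≤ q) {r : ℕ} (hr : H436.Prim q 20 r) :
    r ∣ Nat.card ↥(chevE8.group F) := by
  have hlt := prim_lt hr (by norm_num)
  have hrm : r ∣ m_E8_20 q := by
    rw [← Int.natCast_dvd_natCast, cast_m_E8_20 h2]
    exact prim_dvd_20 hr
  refine dvd_card_of (D := 1) (K := (q : ℤ) ^ 120 * ((q : ℤ) ^ 2 - 1) * ((q : ℤ) ^ 8 - 1) * ((q : ℤ) ^ 12 - 1) * ((q : ℤ) ^ 14 - 1) * ((q : ℤ) ^ 18 - 1) * ((q : ℤ) ^ 24 - 1) * ((q : ℤ) ^ 10 - 1) * ((q : ℤ) ^ 2 + 1) * ((q : ℤ) ^ 30 - 1)) hr.prime ?_ hrm ?_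
  · intro h
    have := Nat.le_of_dvd (by norm_num) h
    omega
  · rw [Nat.cast_one, one_mul, ord_E8 hq, cast_m_E8_20 h2]; (set_option synthInstance.maxSize 99999 in exact Cfsg.Agent.Lib.RingK.eq (by decide +kernel))

theorem fz_E8_20 (h2 : 2 ≤ q) : m_E8_20 q ∣ fz q 10 true * fz q 1 false := by
  refine dvd_fz (A := -1 + (q : ℤ) - (q : ℤ) ^ 2 + (q : ℤ) ^ 3) h2 ?_
  rw [cast_m_E8_20 h2]
  simp only [if_true, Bool.false_eq_true, if_false]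
  ring

/-- the order of the torus of class `24` -/
def m_E8_24 (q : ℕ) : ℕ := (1 - (q : ℤ) ^ 4 + (q : ℤ) ^ 8).toNat

theorem cast_m_E8_24 (hq : 2 ≤ q) : (m_E8_24 q : ℤ) = 1 - (q : ℤ) ^ 4 + (q : ℤ) ^ 8 := by
  apply Int.toNat_of_nonneg
  obtain ⟨t, rfl⟩ := Nat.exists_eq_add_of_le hq
  push_cast
  have h : (0 : ℤ) ≤ (t : ℤ) := by positivity
  have e : 1 - (2 + (t : ℤ)) ^ 4 + (2 + (t : ℤ)) ^ 8 = 241 + 992 * (t : ℤ) + 1768 * (t : ℤ) ^ 2 + 1784 * (t : ℤ) ^ 3 + 1119 * (t : ℤ) ^ 4 + 448 * (t : ℤ) ^ 5 + 112 * (t : ℤ) ^ 6 + 16 * (t : ℤ) ^ 7 + (t : ℤ) ^ 8 := by ring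
  rw [e]
  (clear * -; positivity)

theorem dvd_E8_24 (hq : Fintype.card F = q) (h2 : 2 ≤ q) {r : ℕ} (hr : H436.Prim q 24 r) :
    r ∣ Nat.card ↥(chevE8.group F) := by
  have hlt := prim_lt hr (by norm_num)
  have hrm : r ∣ m_E8_24 q := by
    rw [← Int.natCast_dvd_natCast, cast_m_E8_24 h2]
    exact prim_dvd_24 hr
  refine dvd_card_of (D := 1) (K := (q : ℤ) ^ 120 * ((q : ℤ) ^ 2 - 1) * ((q : ℤ) ^ 8 - 1) * ((q : ℤ) ^ 12 - 1) * ((q : ℤ) ^ 14 - 1) * ((q : ℤ) ^ 18 - 1) * ((q : ℤ) ^ 20 - 1) * ((q : ℤ) ^ 12 - 1) * ((q : ℤ) ^ 4 + 1) * ((q : ℤ) ^ 30 - 1)) hr.prime ?_ hrm ?_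
  · intro h
    have := Nat.le_of_dvd (by norm_num) h
    omega
  · rw [Nat.cast_one, one_mul, ord_E8 hq, cast_m_E8_24 h2]; (set_option synthInstance.maxSize 99999 in exact Cfsg.Agent.Lib.RingK.eq (by decide +kernel))

theorem fz_E8_24 (h2 : 2 ≤ q) : m_E8_24 q ∣ fz q 12 true * fz q 1 false := by
  refine dvd_fz (A := -1 + (q : ℤ) - (q : ℤ) ^ 4 + (q : ℤ) ^ 5) h2 ?_
  rw [cast_m_E8_24 h2]
  simp only [if_true, Bool.false_eq_true, if_false]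
  ring

/-- the order of the torus of class `30` -/
def m_E8_30 (q : ℕ) : ℕ := (1 + (q : ℤ) - (q : ℤ) ^ 3 - (q : ℤ) ^ 4 - (q : ℤ) ^ 5 + (q : ℤ) ^ 7 + (q : ℤ) ^ 8).toNat

theorem cast_m_E8_30 (hq : 2 ≤ q) : (m_E8_30 q : ℤ) = 1 + (q : ℤ) - (q : ℤ) ^ 3 - (q : ℤ) ^ 4 - (q : ℤ) ^ 5 + (q : ℤ) ^ 7 + (q : ℤ) ^ 8 := by
  apply Int.toNat_of_nonneg
  obtain ⟨t, rfl⟩ := Nat.exists_eq_add_of_le hq
  push_cast
  have h : (0 : ℤ) ≤ (t : ℤ) := by positivity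
  have e : 1 + (2 + (t : ℤ)) - (2 + (t : ℤ)) ^ 3 - (2 + (t : ℤ)) ^ 4 - (2 + (t : ℤ)) ^ 5 + (2 + (t : ℤ)) ^ 7 + (2 + (t : ℤ)) ^ 8 = 331 + 1349 * (t : ℤ) + 2354 * (t : ℤ) ^ 2 + 2303 * (t : ℤ) ^ 3 + 1389 * (t : ℤ) ^ 4 + 531 * (t : ℤ) ^ 5 + 126 * (t : ℤ) ^ 6 + 17 * (t : ℤ) ^ 7 + (t : ℤ) ^ 8 := by ring
  rw [e]
  (clear * -; positivity)

theorem dvd_E8_30 (hq : Fintype.card F = q) (h2 : 2 ≤ q) {r : ℕ} (hr : H436.Prim q 30 r) :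
    r ∣ Nat.card ↥(chevE8.group F) := by
  have hlt := prim_lt hr (by norm_num)
  have hrm : r ∣ m_E8_30 q := by
    rw [← Int.natCast_dvd_natCast, cast_m_E8_30 h2]
    exact prim_dvd_30 hr
  refine dvd_card_of (D := 1) (K := (q : ℤ) ^ 120 * ((q : ℤ) ^ 2 - 1) * ((q : ℤ) ^ 8 - 1) * ((q : ℤ) ^ 12 - 1) * ((q : ℤ) ^ 14 - 1) * ((q : ℤ) ^ 18 - 1) * ((q : ℤ) ^ 20 - 1) * ((q : ℤ) ^ 24 - 1) * ((q : ℤ) ^ 5 + 1) * ((q : ℤ) ^ 2 - (q : ℤ) + 1) * ((q : ℤ) ^ 15 - 1)) hr.prime ?_ hrm ?_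
  · intro h
    have := Nat.le_of_dvd (by norm_num) h
    omega
  · rw [Nat.cast_one, one_mul, ord_E8 hq, cast_m_E8_30 h2]; (set_option synthInstance.maxSize 99999 in exact Cfsg.Agent.Lib.RingK.eq (by decide +kernel))

theorem fz_E8_30 (h2 : 2 ≤ q) : m_E8_30 q ∣ fz q 15 true * fz q 1 false := by
  refine dvd_fz (A := -1 + 2 * (q : ℤ) - 2 * (q : ℤ) ^ 2 + (q : ℤ) ^ 3 - (q : ℤ) ^ 5 + 2 * (q : ℤ) ^ 6 - 2 * (q : ℤ) ^ 7 + (q : ℤ) ^ 8) h2 ?_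
  rw [cast_m_E8_30 h2]
  simp only [if_true, Bool.false_eq_true, if_false]
  ring

/-- the rows of `E8` -/
def rows_E8 : Fin 4 → Row := ![⟨15, 30, 15, false, 1, false⟩, ⟨20, 20, 10, true, 1, false⟩, ⟨24, 24, 12, true, 1, false⟩, ⟨30, 30, 15, true, 1, false⟩]

/-- the orders of the tori of `E8` -/
def ms_E8 (q : ℕ) : Fin 4 → ℕ := ![m_E8_15 q, m_E8_20 q, m_E8_24 q, m_E8_30 q]

theorem tori_E8 (hq : Fintype.card F = q) {p : ℕ} (hp : p.Prime) (hpq : p ∣ q) (h2 : 2 ≤ q) :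
    Tori ↥(chevE8.group F) p (fun i r => H436.Prim q (rows_E8 i).i r) (ms_E8 q) (fun i => (rows_E8 i).e) := by
  refine Tori.of hp hpq h2 ?_ ?_ ?_ ?_ ?_ ?_
  · intro i r hr
    fin_cases i
    · exact big_E8_15 hq (cast_m_E8_15 h2) hr
    · exact big_E8_20 hq (cast_m_E8_20 h2) hr
    · exact big_E8_24 hq (cast_m_E8_24 h2) hr
    · exact big_E8_30 hq (cast_m_E8_30 h2) hr
  · intro i r hr
    fin_cases i
    · exact dvd_E8_15 hq h2 hr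
    · exact dvd_E8_20 hq h2 hr
    · exact dvd_E8_24 hq h2 hr
    · exact dvd_E8_30 hq h2 hr
  · rintro i ⟨-, h⟩
    revert i
    decide
  · decide
  · intro i
    fin_cases i
    · exact fz_E8_15 h2
    · exact fz_E8_20 h2
    · exact fz_E8_24 h2
    · exact fz_E8_30 h2
  · decide +kernel

/-- the order of the torus of class `12` -/
def m_TD4_12 (q : ℕ) : ℕ := (1 - (q : ℤ) ^ 2 + (q : ℤ) ^ 4).toNat

theorem cast_m_TD4_12 (hq : 2 ≤ q) : (m_TD4_12 q : ℤ) = 1 - (q : ℤ) ^ 2 + (q : ℤ) ^ 4 := by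
  apply Int.toNat_of_nonneg
  obtain ⟨t, rfl⟩ := Nat.exists_eq_add_of_le hq
  push_cast
  have h : (0 : ℤ) ≤ (t : ℤ) := by positivity
  have e : 1 - (2 + (t : ℤ)) ^ 2 + (2 + (t : ℤ)) ^ 4 = 13 + 28 * (t : ℤ) + 23 * (t : ℤ) ^ 2 + 8 * (t : ℤ) ^ 3 + (t : ℤ) ^ 4 := by ring
  rw [e]
  (clear * -; positivity)

end Cfsg.Agent.H56.Exc

private theorem dce_173e5ebc96d7 : _root_.True := by
  try have : _root_.True := by simp only [_root_.Cfsg.Agent.H56.Exc.cz.eq_1]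
  try have : _root_.True := by simp only [_root_.Cfsg.Agent.H56.Exc.fz.eq_1]
  try have : _root_.True := by simp only [_root_.Cfsg.Agent.H56.Exc.Row.chk.eq_1]
  try have : _root_.True := by simp only [_root_.Cfsg.Agent.H56.Exc.Row.chk1.eq_1]
  exact _root_.True.intro
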