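import Mathlib
import Cfsg.Agent.H325.Same.BigChar_m3
import Cfsg.Agent.H56.Exc.Auto_m3
import Cfsg.Agent.S1062
import Cfsg.Agent.S1063
import Cfsg.Agent.S1065
import Cfsg.Agent.S1066
import Cfsg.Agent.S1068
import Cfsg.Agent.ChevStructure.FieldMap
import Cfsg.Agent.TypeD4Two.FieldIso
import Cfsg.Agent.H59.ESixField
import Cfsg.Agent.H368.TwIso
import Cfsg.Agent.H56.Exc.FacTF4
import Cfsg.Agent.ChevalleyStructure.Elts
import Cfsg.Agent.H190.Cov.Two.Rad3c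
import Cfsg.Agent.H946.KZ.Gap
import Cfsg.Agent.H396.CommTab4
import Cfsg.Agent.H396.ParF4
import Cfsg.Agent.Prune
set_option linter.all false

section
prune_inst 0x7f00000000000000000000000000000000000000000000000000000000000000000000000000000000000000000000000000000000000000000000000000000000000000000000000000000000000000003fffffffffffffffffffffffffffbeffbdffffffff

-- part: H325/Same/BigFin
section
set_option linter.all false
open scoped Cfsg.Agent.FastGrp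

/-!
# The arithmetic `BigP` of the exceptional groups (helper325)

`bigP_E8_24`, `bigP_E8_20`, `bigP_F4_12`, `bigP_F4_8`, `bigP_E6_12`, `bigP_E6_9`, `bigP_TE6_12`, `bigP_TE6_18`.
-/

set_option autoImplicit false

namespace Cfsg.Agent.H325.Same

open Cfsg Cfsg.Agent.OrdDiv Cfsg.Agent.H436 Cfsg.Agent.H915.GN Cfsg.Agent.H264.GN Cfsg.Agent.H264.FKS
open Cfsg.Agent.H902 Cfsg.Agent.H902.Names Cfsg.Agent.H56.Exc

universe u

/-! ### the numbers -/

theorem P_drop {t q a N : ℕ} (ht : t.Prime) (hq : 1 ≤ q) (htq : ¬ t ∣ q) (hN : N ≠ 0) :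
    Art.P t (q ^ a * N) = Art.P t N := by
  rw [Art.P_mul (pow_ne_zero _ (by omega)) hN, Art.P_eq_one (a := q ^ a), one_mul]
  exact fun h => htq (ht.dvd_of_dvd_pow h)

theorem not_dvd_pw {t p f : ℕ} (hp : p.Prime) (ht : t.Prime) (h : t ≠ p) : ¬ t ∣ p ^ f := fun h1 =>
  h ((Nat.prime_dvd_prime_iff_eq ht hp).1 (ht.dvd_of_dvd_pow h1))

theorem P_num_e8 {t q : ℕ} (ht : t.Prime) (hq : 2 ≤ q) (htq : ¬ t ∣ q) : Art.P t (num (.e8 q)) ≤ q ^ 45 := by
  have h0 : Art.num .E8 q ≠ 0 := Art.num_ne_zero hq _ (by rintro m (h | h) <;> exact absurd h (by simp))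
  have h1 : num (.e8 q) = q ^ 120 * Art.num .E8 q := rfl
  rw [h1, P_drop ht (by omega) htq h0]
  refine Art.sub_prod_le ht hq htq {0, 3, 5, 6, 8, 9, 11, 14} 15 (by decide) ?_
  rw [Finset.prod_insert (by decide), Finset.prod_insert (by decide), Finset.prod_insert (by decide),
    Finset.prod_insert (by decide), Finset.prod_insert (by decide), Finset.prod_insert (by decide),
    Finset.prod_insert (by decide), Finset.prod_singleton]
  show (q ^ 2 - 1) * (q ^ 8 - 1) * (q ^ 12 - 1) * (q ^ 14 - 1) * (q ^ 18 - 1) * (q ^ 20 - 1) * (q ^ 24 - 1) *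
      (q ^ 30 - 1) ∣ _
  rw [mul_assoc, mul_assoc, mul_assoc, mul_assoc, mul_assoc, mul_assoc]

theorem P_num_f4 {t q : ℕ} (ht : t.Prime) (hq : 2 ≤ q) (htq : ¬ t ∣ q) : Art.P t (num (.f4 q)) ≤ q ^ 18 := by
  have h0 : Art.num .F4 q ≠ 0 := Art.num_ne_zero hq _ (by rintro m (h | h) <;> exact absurd h (by simp))
  have h1 : num (.f4 q) = q ^ 24 * Art.num .F4 q := rfl
  rw [h1, P_drop ht (by omega) htq h0]
  refine Art.sub_prod_le ht hq htq {0, 2, 3, 5} 6 (by decide) ?_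
  rw [Finset.prod_insert (by decide), Finset.prod_insert (by decide), Finset.prod_insert (by decide),
    Finset.prod_singleton]
  show (q ^ 2 - 1) * (q ^ 6 - 1) * (q ^ 8 - 1) * (q ^ 12 - 1) ∣ _
  rw [mul_assoc, mul_assoc]

theorem P_num_e6 {t q : ℕ} (ht : t.Prime) (hq : 2 ≤ q) (htq : ¬ t ∣ q) : Art.P t (num (.e6 q)) ≤ q ^ 27 := by
  have h0 : Art.num .E6 q ≠ 0 := Art.num_ne_zero hq _ (by rintro m (h | h) <;> exact absurd h (by simp))
  have h1 : num (.e6 q) = q ^ 36 * Art.num .E6 q := rfl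
  rw [h1, P_drop ht (by omega) htq h0]
  refine Art.sub_prod_le ht hq htq {0, 4, 2, 3, 8, 5} 9 (by decide) ?_
  rw [Finset.prod_insert (by decide), Finset.prod_insert (by decide), Finset.prod_insert (by decide),
    Finset.prod_insert (by decide), Finset.prod_insert (by decide), Finset.prod_singleton]
  show (q ^ 2 - 1) * (q ^ 5 - 1) * (q ^ 6 - 1) * (q ^ 8 - 1) * (q ^ 9 - 1) * (q ^ 12 - 1) ∣ _
  rw [mul_assoc, mul_assoc, mul_assoc, mul_assoc]
  exact mul_dvd_mul dvd_rfl (mul_dvd_mul (Art.pow_sub_one_dvd (by decide)) (mul_dvd_mul dvd_rfl (mul_dvd_mul dvd_rfl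
    (mul_dvd_mul (Art.pow_sub_one_dvd (by decide)) dvd_rfl))))

theorem P_num_te6 {t q : ℕ} (ht : t.Prime) (hq : 2 ≤ q) (htq : ¬ t ∣ q) : Art.P t (num (.te6 q)) ≤ q ^ 27 := by
  have h0 : Art.num .TE6 q ≠ 0 := Art.num_ne_zero hq _ (by rintro m (h | h) <;> exact absurd h (by simp))
  have h1 : num (.te6 q) = q ^ 36 * Art.num .TE6 q := rfl
  rw [h1, P_drop ht (by omega) htq h0]
  refine Art.sub_prod_le ht hq htq {0, 4, 2, 3, 8, 5} 9 (by decide) ?_
  rw [Finset.prod_insert (by decide), Finset.prod_insert (by decide), Finset.prod_insert (by decide),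
    Finset.prod_insert (by decide), Finset.prod_insert (by decide), Finset.prod_singleton]
  show (q ^ 2 - 1) * (q ^ 5 + 1) * (q ^ 6 - 1) * (q ^ 8 - 1) * (q ^ 9 + 1) * (q ^ 12 - 1) ∣ _
  rw [mul_assoc, mul_assoc, mul_assoc, mul_assoc]
  exact mul_dvd_mul dvd_rfl (mul_dvd_mul (Art.pow_add_one_dvd (by omega)) (mul_dvd_mul dvd_rfl (mul_dvd_mul dvd_rfl
    (mul_dvd_mul (Art.pow_add_one_dvd (by omega)) dvd_rfl))))

theorem sub_le' (q k : ℕ) : q ^ k - 1 ≤ q ^ k := Nat.sub_le _ _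

theorem add_le' {q : ℕ} (hq : 2 ≤ q) (k : ℕ) : q ^ k + 1 ≤ q ^ (k + 1) := by
  have h1 : 1 ≤ q ^ k := Nat.one_le_pow _ _ (by omega)
  calc q ^ k + 1 ≤ q ^ k * 2 := by omega
    _ ≤ q ^ k * q := Nat.mul_le_mul_left _ hq
    _ = q ^ (k + 1) := (pow_succ _ _).symm

theorem num_e8_le (q : ℕ) : num (.e8 q) ≤ q ^ 248 := by
  have h1 : num (.e8 q) = q ^ 120 * ((q ^ 2 - 1) * (q ^ 8 - 1) * (q ^ 12 - 1) * (q ^ 14 - 1) * (q ^ 18 - 1) *
    (q ^ 20 - 1) * (q ^ 24 - 1) * (q ^ 30 - 1)) := rfl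
  rw [h1]
  calc q ^ 120 * ((q ^ 2 - 1) * (q ^ 8 - 1) * (q ^ 12 - 1) * (q ^ 14 - 1) * (q ^ 18 - 1) *
        (q ^ 20 - 1) * (q ^ 24 - 1) * (q ^ 30 - 1)) ≤
      q ^ 120 * (q ^ 2 * q ^ 8 * q ^ 12 * q ^ 14 * q ^ 18 * q ^ 20 * q ^ 24 * q ^ 30) := by
        gcongr <;> exact sub_le' _ _
    _ = q ^ 248 := by ring

theorem num_f4_le (q : ℕ) : num (.f4 q) ≤ q ^ 52 := by
  have h1 : num (.f4 q) = q ^ 24 * ((q ^ 2 - 1) * (q ^ 6 - 1) * (q ^ 8 - 1) * (q ^ 12 - 1)) := rfl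
  rw [h1]
  calc q ^ 24 * ((q ^ 2 - 1) * (q ^ 6 - 1) * (q ^ 8 - 1) * (q ^ 12 - 1)) ≤
      q ^ 24 * (q ^ 2 * q ^ 6 * q ^ 8 * q ^ 12) := by
        gcongr <;> exact sub_le' _ _
    _ = q ^ 52 := by ring

theorem num_e6_le (q : ℕ) : num (.e6 q) ≤ q ^ 78 := by
  have h1 : num (.e6 q) = q ^ 36 * ((q ^ 2 - 1) * (q ^ 5 - 1) * (q ^ 6 - 1) * (q ^ 8 - 1) * (q ^ 9 - 1) *
    (q ^ 12 - 1)) := rfl
  rw [h1]
  calc q ^ 36 * ((q ^ 2 - 1) * (q ^ 5 - 1) * (q ^ 6 - 1) * (q ^ 8 - 1) * (q ^ 9 - 1) * (q ^ 12 - 1)) ≤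
      q ^ 36 * (q ^ 2 * q ^ 5 * q ^ 6 * q ^ 8 * q ^ 9 * q ^ 12) := by
        gcongr <;> exact sub_le' _ _
    _ = q ^ 78 := by ring

theorem num_te6_le {q : ℕ} (hq : 2 ≤ q) : num (.te6 q) ≤ q ^ 80 := by
  have h1 : num (.te6 q) = q ^ 36 * ((q ^ 2 - 1) * (q ^ 5 + 1) * (q ^ 6 - 1) * (q ^ 8 - 1) * (q ^ 9 + 1) *
    (q ^ 12 - 1)) := rfl
  rw [h1]
  calc q ^ 36 * ((q ^ 2 - 1) * (q ^ 5 + 1) * (q ^ 6 - 1) * (q ^ 8 - 1) * (q ^ 9 + 1) * (q ^ 12 - 1)) ≤
      q ^ 36 * (q ^ 2 * q ^ 6 * q ^ 6 * q ^ 8 * q ^ 10 * q ^ 12) := by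
        gcongr
        · exact sub_le' _ _
        · exact add_le' hq 5
        · exact sub_le' _ _
        · exact sub_le' _ _
        · exact add_le' hq 9
        · exact sub_le' _ _
    _ = q ^ 80 := by ring

theorem lt_of_le_pow {q n k : ℕ} (hq : 2 ≤ q) (h : n ≤ q ^ k) : n < q ^ (k + 1) :=
  h.trans_lt (Nat.pow_lt_pow_right (by omega) (Nat.lt_succ_self k))

theorem add_sq_le {q e : ℕ} (hq : 8 ≤ q) (he : 1 ≤ e) : 3 * (q ^ e + 1) ^ 2 ≤ q ^ (2 * e + 1) := by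
  have h1 : 8 ≤ q ^ e := hq.trans (Nat.le_self_pow (by omega) q)
  have h2 : 3 * (q ^ e + 1) ^ 2 ≤ 8 * (q ^ e) ^ 2 := by nlinarith
  calc 3 * (q ^ e + 1) ^ 2 ≤ 8 * (q ^ e) ^ 2 := h2
    _ ≤ q * (q ^ e) ^ 2 := Nat.mul_le_mul_right _ hq
    _ = q ^ (2 * e + 1) := by ring

theorem PC_eight {t q : ℕ} (ht : t.Prime) (ht2 : t ≠ 2) (hq : 8 ≤ q) (htq : ¬ t ∣ q) (m : ℕ) :
    (Art.P t (∏ i ∈ Finset.range m, (q ^ (2 * (i + 1)) - 1))) ^ 2 ≤ q ^ (3 * m) := by
  obtain ⟨e, he, -, h | ⟨hem, h⟩⟩ := Art.PC_odd ht ht2 (by omega) htq m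
  · rw [h.2, one_pow]
    exact Nat.one_le_pow _ _ (by omega)
  · refine h.trans ?_
    have hk : 1 ≤ m / e := Nat.div_pos hem he
    calc ((q ^ e + 1) ^ 2) ^ (m / e) * 3 ^ (m / e - 1) ≤ ((q ^ e + 1) ^ 2) ^ (m / e) * 3 ^ (m / e) :=
          Nat.mul_le_mul_left _ (Nat.pow_le_pow_right (by norm_num) (Nat.sub_le _ _))
      _ = (3 * (q ^ e + 1) ^ 2) ^ (m / e) := by rw [← mul_pow, mul_comm]
      _ ≤ (q ^ (2 * e + 1)) ^ (m / e) := Nat.pow_le_pow_left (add_sq_le hq he) _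
      _ = q ^ (2 * (m / e * e) + m / e) := by rw [← pow_mul]; congr 1; ring
      _ ≤ q ^ (3 * m) := by
          refine Nat.pow_le_pow_right (by omega) ?_
          have h1 := Nat.div_mul_le_self m e
          have h2 := Nat.div_le_self m e
          omega

theorem P_num_tf4 {t q : ℕ} (ht : t.Prime) (ht2 : t ≠ 2) (hq : 8 ≤ q) (htq : ¬ t ∣ q) :
    Art.P t (num (.tf4 q)) ≤ q ^ 9 := by
  have h0 : Art.num .TF4 q ≠ 0 := Art.num_ne_zero (by omega) _ (by rintro m (h | h) <;> exact absurd h (by simp))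
  have h1 : num (.tf4 q) = q ^ 12 * Art.num .TF4 q := rfl
  rw [h1, P_drop ht (by omega) htq h0]
  apply Art.le_of_sq_le
  rw [← pow_mul]
  refine (Nat.pow_le_pow_left (Art.P_mono ht ?_ ?_) 2).trans (PC_eight ht ht2 hq htq 6)
  · exact Finset.prod_ne_zero_iff.2 fun i _ => Art.sub_one_ne (by omega) (by omega)
  · refine Dvd.dvd.trans ?_ (Finset.prod_dvd_prod_of_subset {0, 2, 1, 5} _ _ (by decide))
    rw [Finset.prod_insert (by decide), Finset.prod_insert (by decide), Finset.prod_insert (by decide),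
      Finset.prod_singleton]
    show (q - 1) * (q ^ 3 + 1) * (q ^ 4 - 1) * (q ^ 6 + 1) ∣ _
    rw [mul_assoc, mul_assoc]
    have h2 : q - 1 ∣ q ^ 2 - 1 := by
      have := Art.pow_sub_one_dvd (q := q) (a := 1) (b := 2) (by norm_num)
      rwa [pow_one] at this
    exact mul_dvd_mul h2 (mul_dvd_mul (Art.pow_add_one_dvd (by omega)) (mul_dvd_mul dvd_rfl
      (Art.pow_add_one_dvd (by omega))))

theorem num_tf4_le {q : ℕ} (hq : 2 ≤ q) : num (.tf4 q) ≤ q ^ 28 := by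
  have h1 : num (.tf4 q) = q ^ 12 * ((q - 1) * (q ^ 3 + 1) * (q ^ 4 - 1) * (q ^ 6 + 1)) := rfl
  rw [h1]
  calc q ^ 12 * ((q - 1) * (q ^ 3 + 1) * (q ^ 4 - 1) * (q ^ 6 + 1)) ≤ q ^ 12 * (q * q ^ 4 * q ^ 4 * q ^ 7) := by
        gcongr
        · exact Nat.sub_le _ _
        · exact add_le' hq 3
        · exact sub_le' _ _
        · exact add_le' hq 6
    _ = q ^ 28 := by ring

/-! ### the sporadic groups -/

theorem spor_50 : ∀ x ∈ spor, ¬ 2 ^ 50 ∣ x.2 := by decide +kernel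
theorem spor_34 : ∀ x ∈ spor, 2 ^ 34 ∣ x.2 → 2 ^ 37 ∣ x.2 := by decide +kernel
theorem spor_47 : ∀ x ∈ spor, ¬ 2 ^ 47 ∣ x.2 := by decide +kernel
theorem spor_32 : ∀ x ∈ spor, 2 ^ 32 ∣ x.2 → 2 ^ 37 ∣ x.2 := by decide +kernel
theorem spor_21 : ∀ x ∈ spor, ¬ 3 ^ 21 ∣ x.2 := by decide +kernel
theorem spor_19 : ∀ x ∈ spor, 2 ^ 19 ∣ x.2 → 2 ^ 53 ≤ x.2 := by decide +kernel
theorem spor_43 : ∀ x ∈ spor, 2 ^ 43 ∣ x.2 → 2 ^ 106 ≤ x.2 := by decide +kernel

/-! ### the frame -/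

theorem bigP_frame {G : Type u} [Group G] [Finite G] {p f N δ c c' B D : ℕ} {h : Grp} {C : ℕ → Prop}
    (hS0 : ∀ (X : Type u) [Group X] [Finite X] [IsSimpleGroup X], IsKnownSimple' X)
    (hp : p = 2 ∨ p = 3) (hG : den h * Nat.card G = num h) (hn0 : num h ≠ 0) (hc : c = p ^ δ * c') (hc' : ¬ p ∣ c')
    (hB : ∀ t, t.Prime → t ≠ p → Art.P t (num h) ≤ (p ^ f) ^ B) (hD : num h < p ^ D)
    (hDN : D ≤ 3 * (N * f - δ)) (h13 : 13 ≤ N * f - δ) (hBN : f * B + δ < N * f)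
    (hspor : ∀ x ∈ spor, p ^ (N * f - δ) ∣ x.2 → x.2 ∣ num h → False)
    (hfin : ∀ (g : Grp) (c : ℕ), Cond g → HasChar p g → den g * c = num g → c ∣ num h → (∀ r, C r → r ∣ c) →
      p ^ (N * f) ∣ p ^ δ * c → g = h) : BigP G p (N * f) c C := by
  intro S _ _ hs hna hdvd hC hpp
  have T : OrderTable.{u} := table
  obtain ⟨g, hg⟩ := exists_named T (hS0 S) fun h => hna ⟨⟨h⟩⟩
  have hp' : p.Prime := by
    rcases hp with rfl | rfl
    · exact Nat.prime_two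
    · exact Nat.prime_three
  have hd : Nat.card S ∣ num h := hdvd.trans (hG ▸ Dvd.intro_left _ rfl)
  have hpp' : p ^ (N * f) ∣ p ^ δ * Nat.card S := by
    rw [hc, mul_right_comm] at hpp
    exact (Nat.Coprime.pow_left _ ((hp'.coprime_iff_not_dvd).2 hc')).dvd_of_dvd_mul_right hpp
  have hch := hasChar_of_big hg hp hd hn0 hB hD hDN h13 hBN hpp' hspor
  have h1 := hfin g _ hg.cond hch hg.eq hd hC hpp'
  subst h1
  have h2 := hg.eq.trans hG.symm
  have h3 : 0 < den g := by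
    rcases Nat.eq_zero_or_pos (den g) with h4 | h4
    · rw [h4, zero_mul] at hG
      exact absurd hG.symm hn0
    · exact h4
  exact Nat.eq_of_mul_eq_mul_left h3 h2

theorem num_ne {g : Grp} {G : Type u} [Group G] [Finite G] (hG : den g * Nat.card G = num g) (hd : 0 < den g) :
    num g ≠ 0 := by
  rw [← hG]
  exact Nat.mul_ne_zero hd.ne' Nat.card_pos.ne'

theorem pow_f {q : ℕ} {p f k : ℕ} (h : q < (p ^ f) ^ k) : q < p ^ (f * k) := by rwa [pow_mul]

/-! ### the instances -/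

section Inst

variable (hS0 : ∀ (X : Type u) [Group X] [Finite X] [IsSimpleGroup X], IsKnownSimple' X)

include hS0

theorem bigP_e8 {G : Type u} [Group G] [Finite G] {f d : ℕ} (hd : d = 20 ∨ d = 24) (hf : 1 ≤ f)
    (hG : den (.e8 (2 ^ f)) * Nat.card G = num (.e8 (2 ^ f))) : BigP G 2 (120 * f) 480 (Prim (2 ^ f) d) := by
  have hq : 2 ≤ 2 ^ f := Nat.le_self_pow (by omega) 2
  refine bigP_frame hS0 (f := f) (N := 120) (δ := 5) (c' := 15) (B := 45) (D := f * 249) (Or.inl rfl) hG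
    (num_ne hG one_pos) (by norm_num) (by norm_num) (fun t ht h2 => P_num_e8 ht hq (not_dvd_pw Nat.prime_two ht h2))
    (pow_f (lt_of_le_pow hq (num_e8_le _))) (by omega) (by omega) (by omega) (fun x hx h1 h2 => ?_)
    fun g c hg hch hc hd' hC hpp => ?_
  · exact spor_50 x hx ((Nat.pow_dvd_pow 2 (by omega)).trans h1)
  · have hpp' : 2 ^ (120 * f) ∣ 2 ^ 6 * c := by
      rw [pow_succ', mul_assoc]
      exact hpp.mul_left 2
    rcases hd with rfl | rfl
    · exact bigp_e8_20 Nat.prime_two hf hg hch hc hd' (fun s hs _ => hC s hs) hpp'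
    · exact bigp_e8_24 Nat.prime_two hf hg hch hc hd' (fun s hs _ => hC s hs) hpp'

theorem bigP_f4 {G : Type u} [Group G] [Finite G] {f d : ℕ} (hd : d = 8 ∨ d = 12) (hf : 1 ≤ f)
    (hG : den (.f4 (2 ^ f)) * Nat.card G = num (.f4 (2 ^ f))) : BigP G 2 (24 * f) 96 (Prim (2 ^ f) d) := by
  have hq : 2 ≤ 2 ^ f := Nat.le_self_pow (by omega) 2
  have hlt := pow_f (lt_of_le_pow hq (num_f4_le (2 ^ f)))
  have hn0 := num_ne hG one_pos
  refine bigP_frame hS0 (f := f) (N := 24) (δ := 5) (c' := 3) (B := 18) (D := f * 53) (Or.inl rfl) hG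
    hn0 (by norm_num) (by norm_num) (fun t ht h2 => P_num_f4 ht hq (not_dvd_pw Nat.prime_two ht h2))
    hlt (by omega) (by omega) (by omega) (fun x hx h1 h2 => ?_)
    fun g c hg hch hc hd' hC hpp => ?_
  · have h3 := (Nat.le_of_dvd (Nat.pos_of_ne_zero hn0) h2).trans_lt hlt
    rcases Nat.lt_or_ge f 3 with h4 | h4
    · interval_cases f
      · have := spor_19 x hx h1
        omega
      · have := spor_43 x hx h1
        omega
    · exact spor_47 x hx ((Nat.pow_dvd_pow 2 (by omega)).trans h1)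
  · rcases hd with rfl | rfl
    · exact bigp_f4_8 Nat.prime_two hf hg hch hc hd' (fun s hs _ => hC s hs) hpp
    · exact bigp_f4_12 Nat.prime_two hf hg hch hc hd' (fun s hs _ => hC s hs) hpp

theorem bigP_e6_9 {G : Type u} [Group G] [Finite G] {f : ℕ} (hf : 1 ≤ f)
    (hG : den (.e6 (2 ^ f)) * Nat.card G = num (.e6 (2 ^ f))) : BigP G 2 (36 * f) 108 (Prim (2 ^ f) 9) := by
  have hq : 2 ≤ 2 ^ f := Nat.le_self_pow (by omega) 2
  have hlt := pow_f (lt_of_le_pow hq (num_e6_le (2 ^ f)))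
  have hn0 : num (.e6 (2 ^ f)) ≠ 0 := num_ne hG (Nat.gcd_pos_of_pos_left _ (by norm_num))
  refine bigP_frame hS0 (f := f) (N := 36) (δ := 2) (c' := 27) (B := 27) (D := f * 79) (Or.inl rfl) hG
    hn0 (by norm_num) (by norm_num) (fun t ht h2 => P_num_e6 ht hq (not_dvd_pw Nat.prime_two ht h2))
    hlt (by omega) (by omega) (by omega) (fun x hx h1 h2 => ?_)
    fun g c hg hch hc hd' hC hpp => ?_
  · rcases Nat.lt_or_ge f 2 with h4 | h4
    · obtain rfl : f = 1 := by omega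
      have h5 := (td_e6 Nat.prime_two hf h2).pp (spor_34 x hx h1)
      omega
    · exact spor_47 x hx ((Nat.pow_dvd_pow 2 (by omega)).trans h1)
  · exact bigp_e6_9 Nat.prime_two hf hg hch hc hd' (fun s hs _ => hC s hs) hpp

theorem bigP_e6_12 {G : Type u} [Group G] [Finite G] {f : ℕ} (hf : 1 ≤ f)
    (hG : den (.e6 (3 ^ f)) * Nat.card G = num (.e6 (3 ^ f))) : BigP G 3 (36 * f) 108 (Prim (3 ^ f) 12) := by
  have hq : 2 ≤ 3 ^ f := (by norm_num : 2 ≤ 3).trans (Nat.le_self_pow (by omega) 3)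
  have hlt := pow_f (lt_of_le_pow hq (num_e6_le (3 ^ f)))
  have hn0 : num (.e6 (3 ^ f)) ≠ 0 := num_ne hG (Nat.gcd_pos_of_pos_left _ (by norm_num))
  refine bigP_frame hS0 (f := f) (N := 36) (δ := 3) (c' := 4) (B := 27) (D := f * 79) (Or.inr rfl) hG
    hn0 (by norm_num) (by norm_num) (fun t ht h2 => P_num_e6 ht hq (not_dvd_pw Nat.prime_three ht h2))
    hlt (by omega) (by omega) (by omega) (fun x hx h1 h2 => ?_)
    fun g c hg hch hc hd' hC hpp => ?_
  · exact spor_21 x hx ((Nat.pow_dvd_pow 3 (by omega)).trans h1)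
  · exact bigp_e6_12 Nat.prime_three hf hg hch hc hd' (fun s hs _ => hC s hs) hpp

theorem bigP_te6_18 {G : Type u} [Group G] [Finite G] {f : ℕ} (hf : 1 ≤ f)
    (hG : den (.te6 (2 ^ f)) * Nat.card G = num (.te6 (2 ^ f))) : BigP G 2 (36 * f) 108 (Prim (2 ^ f) 18) := by
  have hq : 2 ≤ 2 ^ f := Nat.le_self_pow (by omega) 2
  have hlt := pow_f (lt_of_le_pow hq (num_te6_le hq))
  have hn0 : num (.te6 (2 ^ f)) ≠ 0 := num_ne hG (Nat.gcd_pos_of_pos_left _ (by norm_num))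
  refine bigP_frame hS0 (f := f) (N := 36) (δ := 2) (c' := 27) (B := 27) (D := f * 81) (Or.inl rfl) hG
    hn0 (by norm_num) (by norm_num) (fun t ht h2 => P_num_te6 ht hq (not_dvd_pw Nat.prime_two ht h2))
    hlt (by omega) (by omega) (by omega) (fun x hx h1 h2 => ?_)
    fun g c hg hch hc hd' hC hpp => ?_
  · rcases Nat.lt_or_ge f 2 with h4 | h4
    · obtain rfl : f = 1 := by omega
      have h5 := (td_te6 Nat.prime_two hf h2).pp (spor_34 x hx h1)
      omega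
    · exact spor_47 x hx ((Nat.pow_dvd_pow 2 (by omega)).trans h1)
  · exact bigp_te6_18 Nat.prime_two hf hg hch hc hd' (fun s hs _ => hC s hs) hpp

theorem bigP_te6_12 {G : Type u} [Group G] [Finite G] {f : ℕ} (hf : 1 ≤ f)
    (hG : den (.te6 (3 ^ f)) * Nat.card G = num (.te6 (3 ^ f))) : BigP G 3 (36 * f) 108 (Prim (3 ^ f) 12) := by
  have hq : 2 ≤ 3 ^ f := (by norm_num : 2 ≤ 3).trans (Nat.le_self_pow (by omega) 3)
  have hlt := pow_f (lt_of_le_pow hq (num_te6_le hq))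
  have hn0 : num (.te6 (3 ^ f)) ≠ 0 := num_ne hG (Nat.gcd_pos_of_pos_left _ (by norm_num))
  refine bigP_frame hS0 (f := f) (N := 36) (δ := 3) (c' := 4) (B := 27) (D := f * 81) (Or.inr rfl) hG
    hn0 (by norm_num) (by norm_num) (fun t ht h2 => P_num_te6 ht hq (not_dvd_pw Nat.prime_three ht h2))
    hlt (by omega) (by omega) (by omega) (fun x hx h1 h2 => ?_)
    fun g c hg hch hc hd' hC hpp => ?_
  · exact spor_21 x hx ((Nat.pow_dvd_pow 3 (by omega)).trans h1)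
  · exact bigp_te6_12 Nat.prime_three hf hg hch hc hd' (fun s hs _ => hC s hs) hpp

theorem bigP_tf4' {G : Type u} [Group G] [Finite G] {m : ℕ} (hm : 1 ≤ m) (C : ℕ → Prop)
    (hG : den (.tf4 (2 ^ (2 * m + 1))) * Nat.card G = num (.tf4 (2 ^ (2 * m + 1)))) :
    BigP G 2 (12 * (2 * m + 1)) 144 C := by
  have hq8 : 8 ≤ 2 ^ (2 * m + 1) := by
    calc 8 = 2 ^ 3 := by norm_num
      _ ≤ 2 ^ (2 * m + 1) := Nat.pow_le_pow_right (by norm_num) (by omega)
  have hq : 2 ≤ 2 ^ (2 * m + 1) := by omega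
  have hlt := pow_f (lt_of_le_pow hq (num_tf4_le hq))
  have hn0 : num (.tf4 (2 ^ (2 * m + 1))) ≠ 0 := num_ne hG one_pos
  refine bigP_frame hS0 (f := 2 * m + 1) (N := 12) (δ := 4) (c' := 9) (B := 9) (D := (2 * m + 1) * 29) (Or.inl rfl) hG
    hn0 (by norm_num) (by norm_num) (fun t ht h2 => P_num_tf4 ht h2 hq8 (not_dvd_pw Nat.prime_two ht h2))
    hlt (by omega) (by omega) (by omega) (fun x hx h1 h2 => ?_)
    fun g c hg hch hc hd' hC hpp => ?_
  · rcases Nat.lt_or_ge m 2 with h4 | h4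
    · obtain rfl : m = 1 := by omega
      have h5 := (td_tf4 Nat.prime_two (by norm_num) h2).pp (spor_32 x hx h1)
      omega
    · exact spor_47 x hx ((Nat.pow_dvd_pow 2 (by omega)).trans h1)
  · exact bigp_tf4 Nat.prime_two (by omega) ⟨m, hm, rfl⟩ hg hch hc hd' hpp

/-! ### the groups -/

variable {F : Type u} [Field F] [Fintype F] {f : ℕ}

theorem bigP_E8_24 (hf : f ≠ 0) (hF : Fintype.card F = 2 ^ f) :
    BigP ↥(Lie.chevE8.group F) 2 (120 * f) 480 (Prim (2 ^ f) 24) := by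
  refine bigP_e8 hS0 (Or.inr rfl) (by omega) ?_
  change 1 * _ = _ ^ 120 * _
  rw [Cfsg.Agent.S1065.result hF]; ring

theorem bigP_E8_20 (hf : f ≠ 0) (hF : Fintype.card F = 2 ^ f) :
    BigP ↥(Lie.chevE8.group F) 2 (120 * f) 480 (Prim (2 ^ f) 20) := by
  refine bigP_e8 hS0 (Or.inl rfl) (by omega) ?_
  change 1 * _ = _ ^ 120 * _
  rw [Cfsg.Agent.S1065.result hF]; ring

theorem bigP_F4_12 (hf : f ≠ 0) (hF : Fintype.card F = 2 ^ f) :
    BigP ↥(Lie.chevF4.group F) 2 (24 * f) 96 (Prim (2 ^ f) 12) := by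
  refine bigP_f4 hS0 (Or.inr rfl) (by omega) ?_
  change 1 * _ = _ ^ 24 * _
  rw [Cfsg.Agent.S1062.result hF]; ring

theorem bigP_F4_8 (hf : f ≠ 0) (hF : Fintype.card F = 2 ^ f) :
    BigP ↥(Lie.chevF4.group F) 2 (24 * f) 96 (Prim (2 ^ f) 8) := by
  refine bigP_f4 hS0 (Or.inl rfl) (by omega) ?_
  change 1 * _ = _ ^ 24 * _
  rw [Cfsg.Agent.S1062.result hF]; ring

theorem bigP_E6_9 (hf : f ≠ 0) (hF : Fintype.card F = 2 ^ f) :
    BigP ↥(Lie.chevE6.group F) 2 (36 * f) 108 (Prim (2 ^ f) 9) := by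
  refine bigP_e6_9 hS0 (by omega) ?_
  change Nat.gcd 3 (2 ^ f - 1) * _ = _ ^ 36 * _
  rw [Cfsg.Agent.S1063.result hF]; ring

theorem bigP_E6_12 (hf : f ≠ 0) (hF : Fintype.card F = 3 ^ f) :
    BigP ↥(Lie.chevE6.group F) 3 (36 * f) 108 (Prim (3 ^ f) 12) := by
  refine bigP_e6_12 hS0 (by omega) ?_
  change Nat.gcd 3 (3 ^ f - 1) * _ = _ ^ 36 * _
  rw [Cfsg.Agent.S1063.result hF]; ring

theorem bigP_TE6_18 (hf : f ≠ 0) (hF : Fintype.card F = (2 ^ f) ^ 2) :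
    BigP ↥(Lie.twistedE6 F (2 ^ f)) 2 (36 * f) 108 (Prim (2 ^ f) 18) := by
  refine bigP_te6_18 hS0 (by omega) ?_
  change Nat.gcd 3 (2 ^ f + 1) * _ = _ ^ 36 * _
  rw [Cfsg.Agent.S1066.result (Nat.prime_two.isPrimePow.pow hf) hF]; ring

theorem bigP_TE6_12 (hf : f ≠ 0) (hF : Fintype.card F = (3 ^ f) ^ 2) :
    BigP ↥(Lie.twistedE6 F (3 ^ f)) 3 (36 * f) 108 (Prim (3 ^ f) 12) := by
  refine bigP_te6_12 hS0 (by omega) ?_
  change Nat.gcd 3 (3 ^ f + 1) * _ = _ ^ 36 * _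
  rw [Cfsg.Agent.S1066.result (Nat.prime_three.isPrimePow.pow hf) hF]; ring

theorem bigP_TF4 {m : ℕ} (hm : 1 ≤ m) (hF : Fintype.card F = 2 ^ (2 * m + 1)) (C : ℕ → Prop) :
    BigP ↥(Lie.twistedF4 F (2 ^ m)) 2 (12 * (2 * m + 1)) 144 C := by
  refine bigP_tf4' hS0 hm C ?_
  change 1 * _ = _ ^ 12 * _
  rw [Cfsg.Agent.S1068.result hF]; ring

end Inst

end Cfsg.Agent.H325.Same
end

-- part: H56/Exc/RowsE
section
set_option linter.all false
open scoped Cfsg.Agent.FastGrp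

-- part: H56/Exc/Down
section
/-!
# `NoFac`: the field may be taken in `Type` (helper56)
-/

set_option autoImplicit false

namespace Cfsg.Agent.H56.Exc

open Cfsg.Lie

universe u

theorem exists_field0 (F : Type u) [Field F] [Fintype F] : ∃ (K : Type) (_ : Field K) (_ : Fintype K),
    Nonempty (K ≃+* F) ∧ Fintype.card K = Fintype.card F := by
  let K : Type := Shrink.{0} F
  letI : Field K := inferInstanceAs (Field (Shrink.{0} F))
  let e : K ≃+* F := Shrink.ringEquiv.{0} F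
  letI : Fintype K := Fintype.ofEquiv F e.symm.toEquiv
  exact ⟨K, inferInstance, inferInstance, ⟨e⟩, Fintype.card_congr e.toEquiv⟩

theorem noFac_group (D : ChevalleyDatum) {P : ℕ → Prop}
    (h : ∀ (K : Type) [Field K] [Fintype K], P (Fintype.card K) → NoFac ↥(D.group K))
    (F : Type u) [Field F] [Fintype F] (hF : P (Fintype.card F)) : NoFac ↥(D.group F) := by
  obtain ⟨K, _, _, ⟨e⟩, hc⟩ := exists_field0 F
  exact (h K (by rw [hc]; exact hF)).of_equiv (ChevStructure.FieldMap.groupEquivOfRingEquiv D e)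

theorem noFac_twistedD4 {q : ℕ} (h : ∀ (K : Type) [Field K] [Fintype K], Fintype.card K = q ^ 3 → NoFac ↥(twistedD4 K q))
    (F : Type u) [Field F] [Fintype F] (hF : Fintype.card F = q ^ 3) : NoFac ↥(twistedD4 F q) := by
  obtain ⟨K, _, _, -, hc⟩ := exists_field0 F
  obtain ⟨e⟩ := TypeD4Two.FieldIso.twistedD4_congr hc q
  exact (h K (by rw [hc, hF])).of_equiv e

theorem noFac_twistedE6 {q : ℕ} (h : ∀ (K : Type) [Field K] [Fintype K], Fintype.card K = q ^ 2 → NoFac ↥(twistedE6 K q))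
    (F : Type u) [Field F] [Fintype F] (hF : Fintype.card F = q ^ 2) : NoFac ↥(twistedE6 F q) := by
  obtain ⟨K, _, _, ⟨e⟩, hc⟩ := exists_field0 F
  exact (h K (by rw [hc, hF])).of_equiv (H59.ESixField.equiv e q)

theorem noFac_twistedF4 {m : ℕ}
    (h : ∀ (K : Type) [Field K] [Fintype K], Fintype.card K = 2 ^ (2 * m + 1) → NoFac ↥(twistedF4 K (2 ^ m)))
    (F : Type u) [Field F] [Fintype F] (hF : Fintype.card F = 2 ^ (2 * m + 1)) : NoFac ↥(twistedF4 F (2 ^ m)) := by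
  obtain ⟨K, _, _, -, hc⟩ := exists_field0 F
  obtain ⟨e⟩ := H368.TwIso.twistedF4_congr hc (2 ^ m)
  exact (h K (by rw [hc, hF])).of_equiv e

end Cfsg.Agent.H56.Exc
end

-- part: H56/Exc/RowsE
section
/-!
# No factorisation with a solvable factor: the rows (helper56)

Hypotheses: the order table, the classification for groups in `Type`, the solvability of the fixed points of a coprime
automorphism (`CycFixSolv`).
-/

set_option autoImplicit false
set_option linter.unusedSectionVars false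

namespace Cfsg.Agent.H56.Exc

open Cfsg.Lie Cfsg.Agent.H563.KG Cfsg.Agent.OrdDiv Cfsg.Agent.H325.IsoExc Cfsg.Agent.H325

theorem cl_of_prim {m r : ℕ} (hm : 1 ≤ m) (h : H436.Prim (2 ^ (2 * m + 1)) 12 r) :
    clTF (2 ^ m) 0 r ∨ clTF (2 ^ m) 1 r := by
  have hx : 2 ≤ 2 ^ m := Nat.le_self_pow (by omega) 2
  have h1 := prim_dvd_12 h
  have h2 : ((2 ^ (2 * m + 1) : ℕ) : ℤ) = 2 * ((2 ^ m : ℕ) : ℤ) ^ 2 := by push_cast; ring
  rw [h2, ← mP_mul_mM hx] at h1
  have h3 : r ∣ mP (2 ^ m) * mM (2 ^ m) := by exact_mod_cast h1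
  rcases h.prime.dvd_mul.1 h3 with h4 | h4
  · exact Or.inl ⟨h.prime, h4⟩
  · exact Or.inr ⟨h.prime, h4⟩

theorem genSubgroup_le {D : ChevalleyDatum} (hD : ChevalleyStructure.Elts.InList D) {F : Type*} [Field F]
    (W : Set (List (ℕ × F))) : D.genSubgroup F W ≤ D.group F := by
  unfold ChevalleyDatum.genSubgroup
  rw [Subgroup.closure_le]
  rintro g ⟨l, -, hg⟩
  rw [(ChevalleyStructure.Elts.eq_wordG_iff hD g l).2 hg]
  exact ChevalleyStructure.Elts.wordG_mem_group hD l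

theorem BT.of_injective {G H : Type*} [Group G] [Group H] [Finite G] [Finite H] {p r : ℕ} (h : BT G p r) (f : H →* G)
    (hf : Function.Injective f) : BT H p r := by
  intro Q hQ hQ1 hr
  refine h (Q.map f) (hQ.map _) ?_ ?_
  · rw [Ne, Subgroup.map_eq_bot_iff_of_injective _ hf]; exact hQ1
  · have h2 : Nat.card ↥((Subgroup.normalizer (Q : Set H)).map f) = Nat.card ↥(Subgroup.normalizer (Q : Set H)) :=
      Nat.card_congr ((Subgroup.normalizer (Q : Set H)).equivMapOfInjective _ hf).symm.toEquiv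
    exact (h2 ▸ hr).trans (Subgroup.card_dvd_of_le (Subgroup.le_normalizer_map _))

variable (tb : OrderTable.{0}) (hE : CycFixSolv.{0}) (hcf : CF)

include tb hE hcf

/-- **E₆(q)** -/
theorem noFac_E6 (F : Type) [Field F] [Fintype F] : NoFac ↥(chevE6.group F) := by
  obtain ⟨p, f, _, hp, hf, hF⟩ := exists_pf F
  have := Fact.mk hp
  refine fac_E6 hp (by omega) hF hE ?_ ?_ (H396.CommTab.hasCG_E6 F p).par ?_ ?_
  · intro M hM
    refine K_E6 tb hE hcf M fun e he r hr => ?_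
    have : e = 9 ∨ e = 12 := by simpa using he
    rw [hF] at hr
    rcases this with rfl | rfl
    · exact hM r (Or.inl hr)
    · exact hM r (Or.inr hr)
  · rintro r (h | h)
    · exact piso_E6 (by rw [hF]; exact h)
    · exact IsoFree.piso_E6_12 (by rw [hF]; exact h)
  · rintro rfl
    exact Same.bigP_E6_12 hcf (by omega) hF
  · rintro rfl
    exact Same.bigP_E6_9 hcf (by omega) hF

/-- **²E₆(q)** -/
theorem noFac_TE6 (F : Type) [Field F] [Fintype F] {q : ℕ} (hq : IsPrimePow q) (hF : Fintype.card F = q ^ 2) :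
    NoFac ↥(twistedE6 F q) := by
  obtain ⟨p, f, _, hp, hf, rfl⟩ := exists_pf' hq hF
  have := Fact.mk hp
  refine fac_TE6 hp (by omega) hF hE ?_ ?_ (H396.CommTab.hasCG_twE6 hq hF p).par ?_ ?_
  · intro M hM
    refine K_TE6 tb hE hcf hq hF M fun e he r hr => ?_
    have : e = 18 ∨ e = 12 := by simpa using he
    rcases this with rfl | rfl
    · exact hM r (Or.inr hr)
    · exact hM r (Or.inl hr)
  · rintro r (h | h)
    · exact piso_twE6 hq hF (Or.inl rfl) h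
    · exact piso_twE6 hq hF (Or.inr rfl) h
  · rintro rfl
    exact Same.bigP_TE6_12 hcf (by omega) hF
  · rintro rfl
    exact Same.bigP_TE6_18 hcf (by omega) hF

/-- **E₇(q)** -/
theorem noFac_E7 (F : Type) [Field F] [Fintype F] : NoFac ↥(chevE7.group F) := by
  obtain ⟨p, f, _, hp, hf, hF⟩ := exists_pf F
  refine fac_E7 hp (by omega) hF hE ?_ ?_
  · intro M hM
    refine K_E7a tb hE hcf M fun e he r hr => ?_
    have : e = 9 ∨ e = 14 := by simpa using he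
    rw [hF] at hr
    rcases this with rfl | rfl
    · exact hM r (Or.inl hr)
    · exact hM r (Or.inr hr)
  · intro M hM
    refine K_E7b tb hE hcf M fun e he r hr => ?_
    have : e = 18 ∨ e = 7 := by simpa using he
    rw [hF] at hr
    rcases this with rfl | rfl
    · exact hM r (Or.inr hr)
    · exact hM r (Or.inl hr)

/-- **E₈(q)** -/
theorem noFac_E8 (F : Type) [Field F] [Fintype F] : NoFac ↥(chevE8.group F) := by
  obtain ⟨p, f, _, hp, hf, hF⟩ := exists_pf F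
  have := Fact.mk hp
  refine fac_E8 hp (by omega) hF hE ?_ ?_ (H396.CommTab.hasCG_E8 F p).par ?_ ?_
  · intro M hM
    refine K_E8 tb hE hcf M fun e he r hr => ?_
    have : e = 20 ∨ e = 24 := by simpa using he
    rw [hF] at hr
    rcases this with rfl | rfl
    · exact hM r (Or.inl hr)
    · exact hM r (Or.inr hr)
  · rintro r (h | h)
    · exact piso_E8 (Or.inl rfl) (by rw [hF]; exact h)
    · exact piso_E8 (Or.inr rfl) (by rw [hF]; exact h)
  · rintro rfl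
    exact Same.bigP_E8_24 hcf (by omega) hF
  · rintro rfl
    exact Same.bigP_E8_20 hcf (by omega) hF

/-- **F₄(q)** -/
theorem noFac_F4 (F : Type) [Field F] [Fintype F] : NoFac ↥(chevF4.group F) := by
  obtain ⟨p, f, _, hp, hf, hF⟩ := exists_pf F
  have := Fact.mk hp
  refine fac_F4 hp (by omega) hF hE ?_ ?_ (H396.ParF4.par_F4 p) ?_ ?_
  · intro M hM
    refine K_F4 tb hE hcf M fun e he r hr => ?_
    have : e = 12 ∨ e = 8 := by simpa using he
    rw [hF] at hr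
    rcases this with rfl | rfl
    · exact hM r (Or.inr hr)
    · exact hM r (Or.inl hr)
  · rintro r (h | h)
    · exact piso_F4 (Or.inl rfl) (by rw [hF]; exact h)
    · exact piso_F4 (Or.inr rfl) (by rw [hF]; exact h)
  · rintro rfl
    exact Same.bigP_F4_12 hcf (by omega) hF
  · rintro rfl
    exact Same.bigP_F4_8 hcf (by omega) hF

/-- **²F₄(q)** -/
theorem noFac_TF4 (F : Type) [Field F] [Fintype F] {m : ℕ} (hm : 1 ≤ m) (hF : Fintype.card F = 2 ^ (2 * m + 1))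
    (hPar : ParP 2 ↥(twistedF4 F (2 ^ m)))
    (hK : ∀ M : Subgroup ↥(twistedF4 F (2 ^ m)), (∀ r, H436.Prim (Fintype.card F) 12 r → ¬ r ∣ M.index) → M = ⊤) :
    NoFac ↥(twistedF4 F (2 ^ m)) := by
  obtain ⟨p, f, _, hp, hf, hF'⟩ := exists_pf F
  have := Fact.mk hp
  obtain rfl : p = 2 := by
    have h1 : p ∣ 2 ^ (2 * m + 1) := by
      rw [← hF, hF']; exact dvd_pow_self p (by omega)
    exact (Nat.prime_dvd_prime_iff_eq hp Nat.prime_two).1 (hp.dvd_of_dvd_pow h1)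
  have hcl : ∀ r, clTF (2 ^ m) 0 r ∨ clTF (2 ^ m) 1 r → H436.Prim (Fintype.card F) 12 r := by
    rintro r (h | h)
    · rw [hF, ← q_TF]; exact prim_of_mP hm h.1 h.2
    · rw [hF, ← q_TF]; exact prim_of_mM hm h.1 h.2
  refine fac_TF4 hF hm hE ?_ ?_ hPar (Same.bigP_TF4 hcf hm hF _) (Same.bigP_TF4 hcf hm hF _)
  · intro M hM
    exact hK M fun r hr => hM r (cl_of_prim hm (by rw [← hF]; exact hr))
  · intro r hr
    have hle : twistedF4 F (2 ^ m) ≤ chevF4.group F := genSubgroup_le (by simp) _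
    exact BT.of_injective (piso_F4 (F := F) (p := 2) (Or.inr rfl) (hcl r hr)) (Subgroup.inclusion hle)
      (Subgroup.inclusion_injective hle)

end Cfsg.Agent.H56.Exc
end
end
end
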